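import Groth.Prelude.Def_Omega3
import Mathlib.RingTheory.Derivation.ToSquareZero
import Mathlib.RingTheory.Kaehler.Polynomial
import Mathlib.RingTheory.Unramified.Basic
import Mathlib.RingTheory.Kaehler.TensorProduct
import Mathlib.RingTheory.Localization.Basic
import Mathlib.Algebra.TrivSqZeroExt.Basic
import Mathlib.RingTheory.LocalProperties.Basic

/-!
# Universal first order thickenings of algebras

`exists_univThickeningRing`, `formallyUnramified_of_univ`, `bijective_baseChange_of_univ`,
`univ_localization_base`, `univ_localization_comap`.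
-/

set_option autoImplicit false
set_option backward.isDefEq.respectTransparency false
set_option backward.isDefEq.respectTransparency.types false
set_option linter.style.haveILetI false

universe u

open TensorProduct

namespace Groth.Agent.Thick12

theorem mem_smul_top_of_one_tmul_eq_zero {A C M : Type u} [CommRing A] [CommRing C] [Algebra A C]
    (hs : Function.Surjective (algebraMap A C)) [AddCommGroup M] [Module A M] {m : M}
    (h : (1 : C) ⊗ₜ[A] m = 0) : m ∈ RingHom.ker (algebraMap A C) • (⊤ : Submodule A M) := by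
  let I := RingHom.ker (algebraMap A C)
  let σ : C → A := Function.surjInv hs
  have hσ : ∀ c, algebraMap A C (σ c) = c := Function.surjInv_eq hs
  let q := Submodule.mkQ (I • (⊤ : Submodule A M))
  have hq : ∀ (x y : A) (n : M), algebraMap A C x = algebraMap A C y → q (x • n) = q (y • n) := fun x y n hxy => by
    refine (Submodule.Quotient.eq _).2 ?_
    rw [← sub_smul]
    exact Submodule.smul_mem_smul (by rw [RingHom.mem_ker, map_sub, hxy, sub_self]) trivial
  let Φ : C ⊗[A] M →+ M ⧸ (I • (⊤ : Submodule A M)) := TensorProduct.liftAddHom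
    { toFun := fun c => AddMonoidHom.mk' (fun n => q (σ c • n)) (fun x y => by rw [smul_add, map_add])
      map_zero' := by
        refine AddMonoidHom.ext fun n => ?_
        show q (σ 0 • n) = 0
        rw [hq (σ 0) 0 n (by rw [hσ, map_zero]), zero_smul, map_zero]
      map_add' := fun c c' => by
        refine AddMonoidHom.ext fun n => ?_
        show q (σ (c + c') • n) = q (σ c • n) + q (σ c' • n)
        rw [← map_add, ← add_smul]
        exact hq _ _ _ (by rw [map_add, hσ, hσ, hσ]) }
    fun r c n => by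
      show q (σ (r • c) • n) = q (σ c • r • n)
      rw [smul_smul]
      exact hq _ _ _ (by rw [hσ, map_mul, hσ, Algebra.smul_def, mul_comm])
  have h' : q (σ 1 • m) = 0 := by
    have := congrArg Φ h
    rwa [map_zero] at this
  rw [hq (σ 1) 1 m (by rw [hσ, map_one]), one_smul] at h'
  exact (Submodule.Quotient.mk_eq_zero _).1 h'

theorem exists_univThickeningRing (R S : Type u) [CommRing R] [CommRing S] [Algebra R S]
    [Algebra.FormallyUnramified R S] :
    ∃ (S' : Type u) (_ : CommRing S') (_ : Algebra R S') (π : S' →ₐ[R] S),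
      OmegaSh.IsUnivThickeningRing R S S' π := by
  let P := MvPolynomial S R
  let ε : P →ₐ[R] S := MvPolynomial.aeval id
  letI : Algebra P S := ε.toRingHom.toAlgebra
  haveI : IsScalarTower R P S := IsScalarTower.of_algebraMap_eq fun r => (ε.commutes r).symm
  have hε : Function.Surjective (algebraMap P S) := fun s => ⟨MvPolynomial.X s, MvPolynomial.aeval_X id s⟩
  let I := RingHom.ker (algebraMap P S)
  have hf : ∀ s : S, ∃ f : P, f ∈ I ∧
      KaehlerDifferential.D R P f - KaehlerDifferential.D R P (MvPolynomial.X s) ∈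
        I • (⊤ : Submodule P (KaehlerDifferential R P)) := fun s => by
    obtain ⟨y, hy⟩ := (KaehlerDifferential.exact_kerCotangentToTensor_mapBaseChange R P S hε
      ((1 : S) ⊗ₜ KaehlerDifferential.D R P (MvPolynomial.X s))).1 (Subsingleton.elim _ _)
    obtain ⟨f, rfl⟩ := Ideal.toCotangent_surjective _ y
    rw [KaehlerDifferential.kerCotangentToTensor_toCotangent] at hy
    exact ⟨f.1, f.2, mem_smul_top_of_one_tmul_eq_zero hε (by rw [TensorProduct.tmul_sub, hy, sub_self])⟩
  choose f hfI hfD using hf
  let J : Ideal P := I ^ 2 ⊔ Ideal.span (Set.range f)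
  have hJI : J ≤ I := sup_le (Ideal.pow_le_self two_ne_zero) (Ideal.span_le.2 (by rintro _ ⟨s, rfl⟩; exact hfI s))
  let π : (P ⧸ J) →ₐ[R] S := Ideal.Quotient.liftₐ J ε fun a ha => RingHom.mem_ker.1 (hJI ha)
  refine ⟨P ⧸ J, inferInstance, inferInstance, π, fun s => ?_, ?_, ?_⟩
  · obtain ⟨p, rfl⟩ := hε s
    exact ⟨Ideal.Quotient.mk J p, rfl⟩
  · rw [← le_bot_iff, pow_two, Ideal.mul_le]
    intro x hx y hy
    obtain ⟨a, rfl⟩ := Ideal.Quotient.mk_surjective x
    obtain ⟨b, rfl⟩ := Ideal.Quotient.mk_surjective y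
    rw [← map_mul, Ideal.mem_bot, Ideal.Quotient.eq_zero_iff_mem]
    refine Ideal.mem_sup_left ?_
    rw [pow_two]
    exact Ideal.mul_mem_mul hx hy
  intro A _ _ I₀ hI₀ a
  -- the key computation
  have key : ∀ (b : P →ₐ[R] A), (Ideal.Quotient.mkₐ R I₀).comp b = a.comp ε →
      letI := b.toRingHom.toAlgebra
      ∀ (E : Derivation R P I₀) (s : S), E (f s) = E (MvPolynomial.X s) := by
    intro b hb
    letI := b.toRingHom.toAlgebra
    intro E s
    haveI : IsScalarTower R P A := IsScalarTower.of_algebraMap_eq fun r => (b.commutes r).symm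
    rw [← sub_eq_zero, ← E.liftKaehlerDifferential_comp_D, ← E.liftKaehlerDifferential_comp_D, ← map_sub]
    refine Submodule.smul_induction_on (hfD s) (fun i hi ω _ => ?_) fun x y hx hy => by rw [map_add, hx, hy, add_zero]
    rw [map_smul]
    apply Subtype.ext
    have h1 : b i ∈ I₀ := by
      rw [← Ideal.Quotient.eq_zero_iff_mem]
      have := AlgHom.congr_fun hb i
      exact this.trans (by show a (algebraMap P S i) = 0; rw [RingHom.mem_ker.1 hi, map_zero])
    show b i * (E.liftKaehlerDifferential ω : A) = 0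
    rw [← Ideal.mem_bot, ← hI₀, pow_two]
    exact Ideal.mul_mem_mul h1 (E.liftKaehlerDifferential ω).2
  choose ℓ hℓ using fun s : S => Ideal.Quotient.mk_surjective (a s)
  let b₀ : P →ₐ[R] A := MvPolynomial.aeval ℓ
  have hb₀ : (Ideal.Quotient.mkₐ R I₀).comp b₀ = a.comp ε := MvPolynomial.algHom_ext fun s => by
    simp [b₀, ε, hℓ]
  have hb₀I : ∀ i ∈ I, b₀ i ∈ I₀ := fun i hi => by
    rw [← Ideal.Quotient.eq_zero_iff_mem]
    exact (AlgHom.congr_fun hb₀ i).trans (by show a (algebraMap P S i) = 0; rw [RingHom.mem_ker.1 hi, map_zero])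
  letI := b₀.toRingHom.toAlgebra
  haveI : IsScalarTower R P A := IsScalarTower.of_algebraMap_eq fun r => (b₀.commutes r).symm
  let E : Derivation R P I₀ := MvPolynomial.mkDerivation R fun s => ⟨-b₀ (f s), neg_mem (hb₀I _ (hfI s))⟩
  let b₁ : P →ₐ[R] A := liftOfDerivationToSquareZero I₀ hI₀ E
  have hb₁ : (Ideal.Quotient.mkₐ R I₀).comp b₁ = a.comp ε := AlgHom.ext fun x => by
    refine Eq.trans ?_ (AlgHom.congr_fun hb₀ x)
    exact liftOfDerivationToSquareZero_mk_apply I₀ hI₀ E x
  have hJ : ∀ p ∈ J, b₁ p = 0 := by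
    intro p hp
    have hle : J ≤ RingHom.ker b₁.toRingHom := by
      refine sup_le ?_ (Ideal.span_le.2 ?_)
      · rw [pow_two, Ideal.mul_le]
        intro x hx y hy
        rw [RingHom.mem_ker, map_mul, ← Ideal.mem_bot, ← hI₀, pow_two]
        have : ∀ i ∈ I, b₁ i ∈ I₀ := fun i hi => by
          rw [← Ideal.Quotient.eq_zero_iff_mem]
          exact (AlgHom.congr_fun hb₁ i).trans (by show a (algebraMap P S i) = 0; rw [RingHom.mem_ker.1 hi, map_zero])
        exact Ideal.mul_mem_mul (this x hx) (this y hy)
      · rintro _ ⟨s, rfl⟩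
        show ((E (f s) : A) + b₀ (f s)) = 0
        rw [key b₀ hb₀ E s]
        show ((MvPolynomial.mkDerivation R _ (MvPolynomial.X s) : I₀) : A) + b₀ (f s) = 0
        rw [MvPolynomial.mkDerivation_X]
        exact neg_add_cancel _
    exact RingHom.mem_ker.1 (hle hp)
  refine ⟨Ideal.Quotient.liftₐ J b₁ hJ, Ideal.Quotient.algHom_ext R ?_, fun b' hb' => Ideal.Quotient.algHom_ext R ?_⟩
  · exact hb₁
  · let b : P →ₐ[R] A := b'.comp (Ideal.Quotient.mkₐ R J)
    have hb : (Ideal.Quotient.mkₐ R I₀).comp b = a.comp ε := by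
      rw [← AlgHom.comp_assoc, hb']
      exact AlgHom.ext fun x => rfl
    show b = b₁
    letI a' := b₁.toRingHom.toAlgebra
    haveI : IsScalarTower R P A := IsScalarTower.of_algebraMap_eq fun r => (b₁.commutes r).symm
    let F : Derivation R P I₀ := derivationToSquareZeroOfLift I₀ hI₀ b (hb.trans hb₁.symm)
    refine MvPolynomial.algHom_ext fun s => ?_
    have h1 : F (f s) = 0 := by
      apply Subtype.ext
      show b (f s) - b₁ (f s) = 0
      have h2 : b (f s) = 0 := by
        show b' (Ideal.Quotient.mk J (f s)) = 0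
        rw [Ideal.Quotient.eq_zero_iff_mem.2 (Ideal.mem_sup_right (Ideal.subset_span (show f s ∈ Set.range f from ⟨s, rfl⟩))), map_zero]
      rw [h2, hJ _ (Ideal.mem_sup_right (Ideal.subset_span ⟨s, rfl⟩)), sub_self]
    have h3 := congrArg Subtype.val ((key b₁ hb₁ F s).symm.trans h1)
    exact sub_eq_zero.1 h3

section props

variable {A B B' : Type u} [CommRing A] [CommRing B] [CommRing B'] [Algebra A B] [Algebra A B']

theorem mul_eq_zero_of_univ {π : B' →ₐ[A] B} (h : OmegaSh.IsUnivThickeningRing A B B' π) {x y : B'}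
    (hx : π x = 0) (hy : π y = 0) : x * y = 0 := by
  rw [← Ideal.mem_bot, ← h.2.1, pow_two]
  exact Ideal.mul_mem_mul (RingHom.mem_ker.2 hx) (RingHom.mem_ker.2 hy)

/-- Lifts out of a universal thickening along a square zero ideal are unique. -/
theorem hom_ext_univ {π : B' →ₐ[A] B} (h : OmegaSh.IsUnivThickeningRing A B B' π) {C : Type u} [CommRing C]
    [Algebra A C] {I : Ideal C} (hI : I ^ 2 = ⊥) {a₁ a₂ : B' →ₐ[A] C} (a : B →ₐ[A] C ⧸ I)
    (h₁ : (Ideal.Quotient.mkₐ A I).comp a₁ = a.comp π) (h₂ : (Ideal.Quotient.mkₐ A I).comp a₂ = a.comp π) :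
    a₁ = a₂ :=
  (h.2.2 C I hI a).unique h₁ h₂

/-- A derivation killed by the ideal extends along a universal thickening, uniquely. -/
theorem eq_zero_of_derivation {π : B' →ₐ[A] B} (h : OmegaSh.IsUnivThickeningRing A B B' π)
    {M : Type u} [AddCommGroup M] [Module B' M] [Module A M] [IsScalarTower A B' M]
    (hkill : ∀ j : B', π j = 0 → ∀ m : M, j • m = 0) (D : Derivation A B' M) (x : B') : D x = 0 := by
  letI : Module B'ᵐᵒᵖ M := Module.compHom M ((RingHom.id B').fromOpposite mul_comm)
  haveI : IsCentralScalar B' M := ⟨fun _ _ => rfl⟩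
  haveI : IsScalarTower A B'ᵐᵒᵖ M := ⟨fun r c m => by
    induction c using MulOpposite.rec' with | h c => exact smul_assoc r c m⟩
  let a₁ : B' →ₐ[A] TrivSqZeroExt B' M := TrivSqZeroExt.inlAlgHom A B' M
  let a₂ : B' →ₐ[A] TrivSqZeroExt B' M :=
    { toFun := fun x => TrivSqZeroExt.inl x + TrivSqZeroExt.inr (D x)
      map_one' := TrivSqZeroExt.ext (by simp) (by simp)
      map_mul' := fun x y => TrivSqZeroExt.ext (by simp)
        (by simp [op_smul_eq_smul, Derivation.leibniz])
      map_zero' := TrivSqZeroExt.ext (by simp) (by simp)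
      map_add' := fun x y => TrivSqZeroExt.ext (by simp) (by simp)
      commutes' := fun r => TrivSqZeroExt.ext
        (by simp [TrivSqZeroExt.algebraMap_eq_inl']) (by simp [TrivSqZeroExt.algebraMap_eq_inl']) }
  let p : TrivSqZeroExt B' M →ₐ[A] B := π.comp (TrivSqZeroExt.fstHom A B' M)
  let K : Ideal (TrivSqZeroExt B' M) := RingHom.ker p.toRingHom
  have hK : K ^ 2 = ⊥ := by
    rw [← le_bot_iff, pow_two, Ideal.mul_le]
    intro a ha b hb
    have ha' : π (TrivSqZeroExt.fst a) = 0 := ha
    have hb' : π (TrivSqZeroExt.fst b) = 0 := hb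
    rw [Ideal.mem_bot]
    refine TrivSqZeroExt.ext ?_ ?_
    · rw [TrivSqZeroExt.fst_mul, TrivSqZeroExt.fst_zero]
      exact mul_eq_zero_of_univ h ha' hb'
    · rw [TrivSqZeroExt.snd_mul, TrivSqZeroExt.snd_zero, op_smul_eq_smul, hkill _ ha', hkill _ hb', add_zero]
  have hp : Function.Surjective p := fun b => by
    obtain ⟨y, rfl⟩ := h.1 b
    exact ⟨TrivSqZeroExt.inl y, rfl⟩
  let e : (TrivSqZeroExt B' M ⧸ K) ≃ₐ[A] B := Ideal.quotientKerAlgEquivOfSurjective hp
  have hlift : ∀ c : B' →ₐ[A] TrivSqZeroExt B' M, (∀ y, p (c y) = π y) →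
      (Ideal.Quotient.mkₐ A K).comp c = e.symm.toAlgHom.comp π := fun c hc =>
    AlgHom.ext fun y => e.injective ((hc y).trans (e.apply_symm_apply (π y)).symm)
  have heq := hom_ext_univ h hK (a₁ := a₂) (a₂ := a₁) e.symm.toAlgHom (hlift a₂ fun y => by simp [p, a₂])
    (hlift a₁ fun y => by simp [p, a₁])
  have h' : TrivSqZeroExt.snd (a₂ x) = TrivSqZeroExt.snd (a₁ x) := by rw [heq]
  simpa [a₁, a₂] using h'

theorem subsingleton_kaehler_of_univ [Algebra B' B] [IsScalarTower A B' B]
    (h : OmegaSh.IsUnivThickeningRing A B B' (IsScalarTower.toAlgHom A B' B)) :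
    Subsingleton (KaehlerDifferential A B') := by
  let J := RingHom.ker (IsScalarTower.toAlgHom A B' B).toRingHom
  let N : Submodule B' (KaehlerDifferential A B') := J • ⊤
  have hD : ∀ x, KaehlerDifferential.D A B' x ∈ N := fun x => (Submodule.Quotient.mk_eq_zero _).1
    (eq_zero_of_derivation h (M := KaehlerDifferential A B' ⧸ N) (fun j hj m => by
      obtain ⟨m, rfl⟩ := Submodule.Quotient.mk_surjective _ m
      rw [← Submodule.Quotient.mk_smul, Submodule.Quotient.mk_eq_zero]
      exact Submodule.smul_mem_smul (RingHom.mem_ker.2 hj) trivial)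
      (N.mkQ.compDer (KaehlerDifferential.D A B')) x)
  have htop : (⊤ : Submodule B' (KaehlerDifferential A B')) ≤ J • ⊤ := by
    rw [← KaehlerDifferential.span_range_derivation, Submodule.span_le]
    rintro _ ⟨x, rfl⟩
    rw [KaehlerDifferential.span_range_derivation]
    exact hD x
  have htop2 : (⊤ : Submodule B' (KaehlerDifferential A B')) ≤ (J * J) • ⊤ := by
    rw [Submodule.mul_smul]
    exact htop.trans (Submodule.smul_mono le_rfl htop)
  rw [← pow_two, h.2.1, Submodule.bot_smul, top_le_iff] at htop2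
  exact ⟨fun x y => by
    have hx : x ∈ (⊥ : Submodule B' (KaehlerDifferential A B')) := htop2 ▸ trivial
    have hy : y ∈ (⊥ : Submodule B' (KaehlerDifferential A B')) := htop2 ▸ trivial
    rw [(Submodule.mem_bot _).1 hx, (Submodule.mem_bot _).1 hy]⟩

variable {R : Type u} [CommRing R] [Algebra R A] [Algebra R B'] [IsScalarTower R A B']

/-- A derivation of the base into a module killed by the ideal extends to the thickening. -/
theorem exists_extend_derivation {π : B' →ₐ[A] B} (h : OmegaSh.IsUnivThickeningRing A B B' π)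
    {M : Type u} [AddCommGroup M] [Module B' M] [Module A M] [IsScalarTower A B' M]
    [Module R M] [IsScalarTower R B' M]
    (hkill : ∀ j : B', π j = 0 → ∀ m : M, j • m = 0) (δ : Derivation R A M) :
    ∃ D : Derivation R B' M, ∀ a, D (algebraMap A B' a) = δ a := by
  letI : Module B'ᵐᵒᵖ M := Module.compHom M ((RingHom.id B').fromOpposite mul_comm)
  haveI : IsCentralScalar B' M := ⟨fun _ _ => rfl⟩
  let ρ : A →+* TrivSqZeroExt B' M :=
    { toFun := fun a => TrivSqZeroExt.inl (algebraMap A B' a) + TrivSqZeroExt.inr (δ a)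
      map_one' := TrivSqZeroExt.ext (by simp) (by simp)
      map_mul' := fun a b => TrivSqZeroExt.ext (by simp) (by simp [op_smul_eq_smul, algebraMap_smul])
      map_zero' := TrivSqZeroExt.ext (by simp) (by simp)
      map_add' := fun a b => TrivSqZeroExt.ext (by simp) (by simp) }
  letI algC : Algebra A (TrivSqZeroExt B' M) := ρ.toAlgebra
  have hρ : ∀ a, algebraMap A (TrivSqZeroExt B' M) a =
      TrivSqZeroExt.inl (algebraMap A B' a) + TrivSqZeroExt.inr (δ a) := fun a => rfl
  let p : TrivSqZeroExt B' M →ₐ[A] B :=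
    { toFun := fun c => π (TrivSqZeroExt.fst c)
      map_one' := by simp
      map_mul' := fun x y => by simp
      map_zero' := by simp
      map_add' := fun x y => by simp
      commutes' := fun a => by rw [hρ]; simp }
  let K : Ideal (TrivSqZeroExt B' M) := RingHom.ker p.toRingHom
  have hK : K ^ 2 = ⊥ := by
    rw [← le_bot_iff, pow_two, Ideal.mul_le]
    intro x hx y hy
    have hx' : π (TrivSqZeroExt.fst x) = 0 := hx
    have hy' : π (TrivSqZeroExt.fst y) = 0 := hy
    rw [Ideal.mem_bot]
    refine TrivSqZeroExt.ext ?_ ?_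
    · rw [TrivSqZeroExt.fst_mul, TrivSqZeroExt.fst_zero]
      exact mul_eq_zero_of_univ h hx' hy'
    · rw [TrivSqZeroExt.snd_mul, TrivSqZeroExt.snd_zero, op_smul_eq_smul, hkill _ hx', hkill _ hy', add_zero]
  have hp : Function.Surjective p := fun b => by
    obtain ⟨x, rfl⟩ := h.1 b
    exact ⟨TrivSqZeroExt.inl x, by simp [p]⟩
  let e := Ideal.quotientKerAlgEquivOfSurjective hp
  obtain ⟨l, hl, -⟩ := h.2.2 _ K hK e.symm.toAlgHom
  have hlB : ∀ x, p (l x) = π x := fun x => (congrArg e (AlgHom.congr_fun hl x)).trans (e.apply_symm_apply _)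
  let l₁ : B' →ₐ[A] B' :=
    { toFun := fun x => TrivSqZeroExt.fst (l x)
      map_one' := by simp
      map_mul' := fun x y => by simp
      map_zero' := by simp
      map_add' := fun x y => by simp
      commutes' := fun a => by rw [AlgHom.commutes, hρ]; simp }
  have hl₁ : l₁ = AlgHom.id A B' := by
    let eB : (B' ⧸ RingHom.ker π.toRingHom) ≃ₐ[A] B := Ideal.quotientKerAlgEquivOfSurjective h.1
    refine hom_ext_univ h h.2.1 eB.symm.toAlgHom (AlgHom.ext fun x => eB.injective ?_)
      (AlgHom.ext fun x => eB.injective ?_)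
    · exact (hlB x).trans (eB.apply_symm_apply (π x)).symm
    · exact (eB.apply_symm_apply (π x)).symm
  have hfl : ∀ x, TrivSqZeroExt.fst (l x) = x := fun x => AlgHom.congr_fun hl₁ x
  have hmul : ∀ x y, TrivSqZeroExt.snd (l (x * y)) = x • TrivSqZeroExt.snd (l y) + y • TrivSqZeroExt.snd (l x) :=
    fun x y => by rw [map_mul, TrivSqZeroExt.snd_mul, hfl, hfl, op_smul_eq_smul]
  have hla : ∀ a, TrivSqZeroExt.snd (l (algebraMap A B' a)) = δ a := fun a => by
    rw [AlgHom.commutes, hρ]; simp
  refine ⟨Derivation.mk'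
    { toFun := fun x => TrivSqZeroExt.snd (l x)
      map_add' := fun x y => by simp
      map_smul' := fun r x => by
        rw [Algebra.smul_def, hmul, IsScalarTower.algebraMap_apply R A B', hla, Derivation.map_algebraMap,
          smul_zero, add_zero, ← IsScalarTower.algebraMap_apply R A B', algebraMap_smul, RingHom.id_apply] }
    hmul, hla⟩

set_option maxHeartbeats 1000000 in
theorem bijective_baseChange_of_univ [Algebra B' B] [IsScalarTower A B' B]
    (h : OmegaSh.IsUnivThickeningRing A B B' (IsScalarTower.toAlgHom A B' B)) :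
    Function.Bijective ((KaehlerDifferential.mapBaseChange R A B').baseChange B) := by
  haveI := subsingleton_kaehler_of_univ h
  have hsurjm : Function.Surjective (KaehlerDifferential.mapBaseChange R A B') := fun x =>
    (KaehlerDifferential.exact_mapBaseChange_map R A B' x).1 (Subsingleton.elim _ _)
  refine ⟨?_, LinearMap.lTensor_surjective (g := KaehlerDifferential.mapBaseChange R A B') B hsurjm⟩
  letI algRB : Algebra R B := ((algebraMap A B).comp (algebraMap R A)).toAlgebra
  haveI : IsScalarTower R A B := IsScalarTower.of_algebraMap_eq' rfl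
  haveI : IsScalarTower R B' B := IsScalarTower.of_algebraMap_eq fun r => by
    rw [IsScalarTower.algebraMap_apply R A B, IsScalarTower.algebraMap_apply R A B',
      ← IsScalarTower.algebraMap_apply A B' B]
  let δ : Derivation R A (B ⊗[B'] (B' ⊗[A] KaehlerDifferential R A)) :=
    (((TensorProduct.mk B' B (B' ⊗[A] KaehlerDifferential R A) 1).restrictScalars A) ∘ₗ
      (TensorProduct.mk A B' (KaehlerDifferential R A) 1)).compDer (KaehlerDifferential.D R A)
  obtain ⟨D', hD'⟩ := exists_extend_derivation (R := R) h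
    (M := B ⊗[B'] (B' ⊗[A] KaehlerDifferential R A)) (fun j hj m => by
      induction m using TensorProduct.induction_on with
      | zero => rw [smul_zero]
      | add x y hx hy => rw [smul_add, hx, hy, add_zero]
      | tmul b n =>
        rw [TensorProduct.smul_tmul', Algebra.smul_def, show algebraMap B' B j = 0 from hj, zero_mul,
          TensorProduct.zero_tmul]) δ
  let L := D'.liftKaehlerDifferential.liftBaseChange B
  have hL : ∀ z, L ((KaehlerDifferential.mapBaseChange R A B').baseChange B z) = z := by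
    intro z
    induction z using TensorProduct.induction_on with
    | zero => simp
    | add x y hx hy => simp only [map_add, hx, hy]
    | tmul b n =>
      rw [LinearMap.baseChange_tmul, LinearMap.liftBaseChange_tmul]
      suffices hn : D'.liftKaehlerDifferential (KaehlerDifferential.mapBaseChange R A B' n) = (1 : B) ⊗ₜ n by
        rw [hn, TensorProduct.smul_tmul', smul_eq_mul, mul_one]
      induction n using TensorProduct.induction_on with
      | zero => simp
      | add x y hx hy => simp only [map_add, hx, hy, TensorProduct.tmul_add]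
      | tmul c ω =>
        rw [KaehlerDifferential.mapBaseChange_tmul, map_smul]
        have hω : ω ∈ Submodule.span A (Set.range (KaehlerDifferential.D R A)) := by
          rw [KaehlerDifferential.span_range_derivation]; trivial
        suffices hw : D'.liftKaehlerDifferential (KaehlerDifferential.map R R A B' ω) = (1 : B) ⊗ₜ ((1 : B') ⊗ₜ ω) by
          rw [hw, ← TensorProduct.tmul_smul, TensorProduct.smul_tmul', smul_eq_mul, mul_one]
        induction hω using Submodule.span_induction with
        | mem y hy =>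
          obtain ⟨a, rfl⟩ := hy
          rw [KaehlerDifferential.map_D, Derivation.liftKaehlerDifferential_comp_D]
          exact hD' a
        | zero => simp
        | add x y _ _ hx hy => simp only [map_add, hx, hy, TensorProduct.tmul_add]
        | smul r x _ hx =>
          rw [map_smul, ← algebraMap_smul B' r (KaehlerDifferential.map R R A B' x), map_smul, hx,
            ← TensorProduct.tmul_smul, algebraMap_smul, ← TensorProduct.tmul_smul]
  exact Function.LeftInverse.injective hL

end props

section loc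

variable {A B B' : Type u} [CommRing A] [CommRing B] [CommRing B'] [Algebra A B] [Algebra A B']

theorem isUnit_of_isUnit_mk {C : Type u} [CommRing C] {I : Ideal C} (hI : I ^ 2 = ⊥) {x : C}
    (h : IsUnit (Ideal.Quotient.mk I x)) : IsUnit x := by
  obtain ⟨y, hy⟩ := h.exists_right_inv
  obtain ⟨y, rfl⟩ := Ideal.Quotient.mk_surjective y
  rw [← map_mul, ← map_one (Ideal.Quotient.mk I), Ideal.Quotient.eq] at hy
  have hn : (x * y - 1) * (x * y - 1) = 0 := by
    rw [← Ideal.mem_bot, ← hI, pow_two]
    exact Ideal.mul_mem_mul hy hy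
  exact IsUnit.of_mul_eq_one (y * (2 - x * y)) (by linear_combination (-1 : C) * hn)

variable {π : B' →ₐ[A] B}

/-- A localisation of a universal thickening, the base possibly changed by a localisation. -/
theorem univ_of_localization (h : OmegaSh.IsUnivThickeningRing A B B' π) (M' : Submonoid B')
    (BS B'S AS : Type u) [CommRing BS] [CommRing B'S] [CommRing AS]
    [Algebra B BS] [Algebra B' B'S] [Algebra A AS] [Algebra AS BS] [Algebra AS B'S] [Algebra A BS] [Algebra A B'S]
    [IsScalarTower A AS BS] [IsScalarTower A AS B'S] [IsScalarTower A B BS] [IsScalarTower A B' B'S]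
    [IsLocalization M' B'S] [IsLocalization (M'.map π.toRingHom.toMonoidHom) BS]
    (hAS : ∀ (C : Type u) [CommRing C] (f g : AS →+* C), f.comp (algebraMap A AS) = g.comp (algebraMap A AS) → f = g)
    (πS : B'S →ₐ[AS] BS) (hπS : ∀ x : B', πS (algebraMap B' B'S x) = algebraMap B BS (π x)) :
    OmegaSh.IsUnivThickeningRing AS BS B'S πS := by
  refine ⟨fun y => ?_, ?_, fun C _ _ I hI a => ?_⟩
  · obtain ⟨b, ⟨_, s', hs', rfl⟩, rfl⟩ := IsLocalization.exists_mk'_eq (M'.map π.toRingHom.toMonoidHom) y
    obtain ⟨b', rfl⟩ := h.1 b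
    refine ⟨IsLocalization.mk' B'S b' ⟨s', hs'⟩, ?_⟩
    rw [IsLocalization.eq_mk'_iff_mul_eq]
    show πS _ * algebraMap B BS (π s') = algebraMap B BS (π b')
    rw [← hπS, ← map_mul, IsLocalization.mk'_spec, hπS]
  · rw [← le_bot_iff, pow_two, Ideal.mul_le]
    intro x hx y hy
    have key : ∀ z ∈ RingHom.ker πS.toRingHom, ∃ (b : B') (s : B'S), π b = 0 ∧ z = algebraMap B' B'S b * s := by
      intro z hz
      obtain ⟨b, t, rfl⟩ := IsLocalization.exists_mk'_eq M' z
      have h0 : algebraMap B BS (π b) = 0 := by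
        rw [← hπS, ← IsLocalization.mk'_spec B'S b t, map_mul, show πS (IsLocalization.mk' B'S b t) = 0 from hz,
          zero_mul]
      obtain ⟨⟨_, u', hu', rfl⟩, hm⟩ := (IsLocalization.map_eq_zero_iff (M'.map π.toRingHom.toMonoidHom) BS _).1 h0
      refine ⟨u' * b, IsLocalization.mk' B'S 1 (t * ⟨u', hu'⟩), ?_, ?_⟩
      · rw [map_mul]; exact hm
      · rw [← IsLocalization.mk'_eq_mul_mk'_one, IsLocalization.mk'_eq_iff_eq]
        congr 1
        show (t : B') * u' * b = t * (u' * b)
        ring
    obtain ⟨b, s, hb, rfl⟩ := key x hx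
    obtain ⟨c, t, hc, rfl⟩ := key y hy
    rw [Ideal.mem_bot, mul_mul_mul_comm, ← map_mul, mul_eq_zero_of_univ h hb hc, map_zero, zero_mul]
  · letI : Algebra A C := ((algebraMap AS C).comp (algebraMap A AS)).toAlgebra
    haveI : IsScalarTower A AS C := IsScalarTower.of_algebraMap_eq' rfl
    let a₀ : B →ₐ[A] C ⧸ I := (a.restrictScalars A).comp (IsScalarTower.toAlgHom A B BS)
    obtain ⟨l, hl, hu⟩ := h.2.2 C I hI a₀
    have hunit : ∀ y : M', IsUnit (l y) := fun y => isUnit_of_isUnit_mk hI (by
      rw [show Ideal.Quotient.mk I (l y) = a (algebraMap B BS (π y)) from AlgHom.congr_fun hl y]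
      exact (IsLocalization.map_units BS (⟨π y, ⟨_, y.2, rfl⟩⟩ : M'.map π.toRingHom.toMonoidHom)).map a)
    let L₀ : B'S →+* C := IsLocalization.lift hunit
    let L : B'S →ₐ[AS] C :=
      { L₀ with
        commutes' := fun r => RingHom.congr_fun (hAS C (L₀.comp (algebraMap AS B'S)) (algebraMap AS C)
          (RingHom.ext fun x => by
            show L₀ (algebraMap AS B'S (algebraMap A AS x)) = algebraMap AS C (algebraMap A AS x)
            rw [← IsScalarTower.algebraMap_apply, IsScalarTower.algebraMap_apply A B' B'S]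
            exact (IsLocalization.lift_eq hunit _).trans (l.commutes x))) r }
    refine ⟨L, AlgHom.coe_ringHom_injective (IsLocalization.ringHom_ext M' (RingHom.ext fun x => ?_)),
      fun L' hL' => AlgHom.coe_ringHom_injective (IsLocalization.ringHom_ext M' (RingHom.ext fun x => ?_))⟩
    · show Ideal.Quotient.mk I (L₀ (algebraMap B' B'S x)) = a (πS (algebraMap B' B'S x))
      rw [IsLocalization.lift_eq, hπS]
      exact AlgHom.congr_fun hl x
    · show L' (algebraMap B' B'S x) = L₀ (algebraMap B' B'S x)
      rw [IsLocalization.lift_eq]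
      refine AlgHom.congr_fun (hu ((L'.restrictScalars A).comp (IsScalarTower.toAlgHom A B' B'S))
        (AlgHom.ext fun y => ?_)) x
      show Ideal.Quotient.mk I (L' (algebraMap B' B'S y)) = a (algebraMap B BS (π y))
      rw [← hπS]
      exact AlgHom.congr_fun hL' (algebraMap B' B'S y)

end loc

end Groth.Agent.Thick12
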