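import Groth.Agent.Lib.Thick12.Local
import Groth.Agent.Lib.Thick12.Ring
import Groth.Agent.Lib.SmoothLift15.Geometry
import Groth.Agent.Lib.ThickAff3.Affine
import Mathlib.AlgebraicGeometry.Morphisms.Affine

/-!
# Universal thickenings of affine schemes and of rings

`univ_spec`, `ringUniv_of_univ`.
-/

set_option autoImplicit false
set_option backward.isDefEq.respectTransparency false
set_option backward.isDefEq.respectTransparency.types false
set_option linter.style.haveILetI false

universe u

open CategoryTheory CategoryTheory.Limits AlgebraicGeometry TopologicalSpace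

namespace Groth.Agent.Thick12

variable {T T' : Scheme.{u}} {R R' : CommRingCat.{u}}

/-- The ring map of a morphism to a spectrum. -/
noncomputable def gam (f : T ⟶ Spec R) : R ⟶ Γ(T, ⊤) := (Scheme.ΓSpecIso R).inv ≫ f.appTop

theorem gam_comp (g : T' ⟶ T) (f : T ⟶ Spec R) : gam (g ≫ f) = gam f ≫ g.appTop := by
  simp [gam]

theorem gam_comp_map (f : T ⟶ Spec R) (φ : R' ⟶ R) : gam (f ≫ Spec.map φ) = φ ≫ gam f := by
  simp [gam, Scheme.ΓSpecIso_inv_naturality_assoc]

theorem gam_injective : Function.Injective (gam : (T ⟶ Spec R) → _) := fun f g h =>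
  ext_of_isAffine ((cancel_epi (Scheme.ΓSpecIso R).inv).1 h)

theorem gam_toSpec (φ : R ⟶ Γ(T, ⊤)) : gam (T.toSpecΓ ≫ Spec.map φ) = φ := by
  rw [gam, Scheme.Hom.comp_appTop, Scheme.toSpecΓ_appTop, Scheme.ΓSpecIso_naturality,
    Iso.inv_hom_id_assoc]

theorem mul_eq_zero_appTop {i : T ⟶ T'} (hi : MoreMor.IsFirstOrderThickening i) [IsAffine T'] {x y : Γ(T', ⊤)}
    (hx : i.appTop x = 0) (hy : i.appTop y = 0) : x * y = 0 := by
  haveI := hi.1.1
  let U : T'.affineOpens := ⟨⊤, isAffineOpen_top T'⟩
  have h : (i.ker * i.ker).ideal U = ⊥ := by rw [hi.2]; simp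
  rw [Scheme.IdealSheafData.ideal_mul, Pi.mul_apply, Scheme.Hom.ker_apply] at h
  rw [← Ideal.mem_bot]
  exact h ▸ Ideal.mul_mem_mul (RingHom.mem_ker.2 hx) (RingHom.mem_ker.2 hy)

theorem surjective_appTop {i : T ⟶ T'} [IsClosedImmersion i] [IsAffine T'] : Function.Surjective i.appTop :=
  i.app_surjective ⊤ (isAffineOpen_top T')

theorem isFirstOrderThickening_spec {B B' : Type u} [CommRing B] [CommRing B'] (π : B' →+* B)
    (hs : Function.Surjective π) (hsq : RingHom.ker π ^ 2 = ⊥) :
    MoreMor.IsFirstOrderThickening (Spec.map (CommRingCat.ofHom π)) := by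
  haveI : IsClosedImmersion (Spec.map (CommRingCat.ofHom π)) := IsClosedImmersion.spec_of_surjective _ hs
  refine ⟨⟨inferInstance, ⟨fun x => ?_⟩⟩, ?_⟩
  · have hx : x ∈ PrimeSpectrum.zeroLocus (RingHom.ker π : Set B') := fun i hi => by
      refine x.isPrime.mem_of_pow_mem 2 ?_
      have h := Ideal.pow_mem_pow hi 2
      rw [hsq, Ideal.mem_bot] at h
      exact h ▸ x.asIdeal.zero_mem
    rw [← range_comap_of_surjective _ _ hs] at hx
    exact hx
  · refine le_bot_iff.1 (Scheme.IdealSheafData.le_of_isAffine ?_)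
    rw [Scheme.IdealSheafData.ideal_mul, Pi.mul_apply, Scheme.Hom.ker_apply, Ideal.mul_le]
    intro x hx y hy
    rw [show (⊥ : (Spec (CommRingCat.of B')).IdealSheafData).ideal ⟨⊤, isAffineOpen_top _⟩ = ⊥ from rfl, Ideal.mem_bot]
    have key : ∀ x : Γ(Spec (CommRingCat.of B'), ⊤), (Spec.map (CommRingCat.ofHom π)).appTop x = 0 →
        π ((Scheme.ΓSpecIso (CommRingCat.of B')).hom x) = 0 := fun x hx => by
      have h := ConcreteCategory.congr_hom (Scheme.ΓSpecIso_naturality (CommRingCat.ofHom π)) x
      refine Eq.trans ?_ ((congrArg _ hx).trans (map_zero (Scheme.ΓSpecIso (CommRingCat.of B)).hom.hom))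
      exact h.symm
    have h0 : (Scheme.ΓSpecIso (CommRingCat.of B')).hom x * (Scheme.ΓSpecIso (CommRingCat.of B')).hom y = 0 := by
      rw [← Ideal.mem_bot, ← hsq, pow_two]
      exact Ideal.mul_mem_mul (key x hx) (key y hy)
    rw [← map_mul] at h0
    have := congrArg (Scheme.ΓSpecIso (CommRingCat.of B')).inv h0
    rw [map_zero, ← CategoryTheory.comp_apply, Iso.hom_inv_id] at this
    exact this

variable {A B B' : Type u} [CommRing A] [CommRing B] [CommRing B'] [Algebra A B] [Algebra A B']

/-- The spectrum of a universal thickening of rings. -/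
theorem univ_spec {π : B' →ₐ[A] B} (h : OmegaSh.IsUnivThickeningRing A B B' π) :
    OmegaSh.IsUnivThickening (Spec.map (CommRingCat.ofHom (algebraMap A B)))
      (Spec.map (CommRingCat.ofHom π.toRingHom)) (Spec.map (CommRingCat.ofHom (algebraMap A B'))) := by
  refine ⟨isFirstOrderThickening_spec π.toRingHom h.1 h.2.1, ?_, fun T T' j b a hj hjb => ?_⟩
  · rw [← Spec.map_comp]
    congr 1
    ext r
    exact π.commutes r
  refine existsUnique_of_cover _ _ j b a (fun U : T'.affineOpens => U.1) (fun t => by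
    obtain ⟨U, hU, htU, -⟩ := exists_isAffineOpen_mem_and_subset (X := T') (x := t) (U := ⊤) trivial
    exact ⟨⟨U, hU⟩, htU⟩) fun U P p _ hp => ?_
  -- unique lifts over the affine piece, hence over all its opens
  have haff : ∀ (S S' : Scheme.{u}) (jS : S ⟶ S') (bS : S' ⟶ Spec (CommRingCat.of A)) (aS : S ⟶ Spec (CommRingCat.of B)),
      MoreMor.IsFirstOrderThickening jS → IsAffine S' →
      jS ≫ bS = aS ≫ Spec.map (CommRingCat.ofHom (algebraMap A B)) →
      ∃! a', IsLift (Spec.map (CommRingCat.ofHom π.toRingHom)) (Spec.map (CommRingCat.ofHom (algebraMap A B'))) jS bS aS a' := by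
    intro S S' jS bS aS hjS hS' w
    haveI := hjS.1.1
    letI : Algebra A Γ(S', ⊤) := (gam bS).hom.toAlgebra
    let I : Ideal Γ(S', ⊤) := RingHom.ker jS.appTop.hom
    have hI : I ^ 2 = ⊥ := by
      rw [← le_bot_iff, pow_two, Ideal.mul_le]
      exact fun x hx y hy => Ideal.mem_bot.2 (mul_eq_zero_appTop hjS hx hy)
    let e : (Γ(S', ⊤) ⧸ I) ≃+* Γ(S, ⊤) := RingHom.quotientKerEquivOfSurjective (surjective_appTop (i := jS))
    have he : ∀ c, e (Ideal.Quotient.mk I c) = jS.appTop c := fun c => rfl
    have hw : gam bS ≫ jS.appTop = CommRingCat.ofHom (algebraMap A B) ≫ gam aS := by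
      rw [← gam_comp, w, gam_comp_map]
    let α : B →ₐ[A] Γ(S', ⊤) ⧸ I :=
      { e.symm.toRingHom.comp (gam aS).hom with
        commutes' := fun r => by
          show e.symm ((gam aS) (algebraMap A B r)) = Ideal.Quotient.mk I ((gam bS) r)
          rw [RingEquiv.symm_apply_eq, he]
          exact (ConcreteCategory.congr_hom hw r).symm }
    obtain ⟨l, hl, hlu⟩ := h.2.2 Γ(S', ⊤) I hI α
    refine ⟨S'.toSpecΓ ≫ Spec.map (CommRingCat.ofHom l.toRingHom), ⟨gam_injective ?_, gam_injective ?_⟩, fun m hm => gam_injective ?_⟩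
    · rw [gam_comp, gam_toSpec, gam_comp_map]
      ext x
      show jS.appTop (l x) = gam aS (π x)
      rw [← he, show Ideal.Quotient.mk I (l x) = α (π x) from AlgHom.congr_fun hl x]
      exact e.apply_symm_apply _
    · rw [gam_comp_map, gam_toSpec]
      ext r
      exact l.commutes r
    · rw [gam_toSpec]
      let m' : B' →ₐ[A] Γ(S', ⊤) :=
        { (gam m).hom with
          commutes' := fun r => by
            have h2 := congrArg gam hm.2
            rw [gam_comp_map] at h2
            exact ConcreteCategory.congr_hom h2 r }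
      have hm' : m' = l := hlu m' (AlgHom.ext fun x => by
        have h1 := congrArg gam hm.1
        rw [gam_comp, gam_comp_map] at h1
        show Ideal.Quotient.mk I (gam m x) = α (π x)
        apply e.injective
        rw [he]
        exact (ConcreteCategory.congr_hom h1 x).trans (e.apply_symm_apply _).symm)
      ext x
      exact AlgHom.congr_fun hm' x
  -- opens of an affine piece
  have hw : pullback.snd j p ≫ p ≫ b = (pullback.fst j p ≫ a) ≫ Spec.map (CommRingCat.ofHom (algebraMap A B)) := by
    rw [← pullback.condition_assoc, hjb, Category.assoc]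
  refine existsUnique_of_cover _ _ (pullback.snd j p) (p ≫ b) (pullback.fst j p ≫ a) (fun W : P.affineOpens => W.1)
    (fun t => by
      obtain ⟨W, hW, htW, -⟩ := exists_isAffineOpen_mem_and_subset (X := P) (x := t) (U := ⊤) trivial
      exact ⟨⟨W, hW⟩, htW⟩) fun W Q q _ hq => ?_
  -- over an open of an affine open: restrict the affine solution
  have hWaff : IsAffine (W.1 : Scheme.{u}) := W.2
  have hsW := isFirstOrderThickening_snd _ (isFirstOrderThickening_snd j hj p) W.1.ι
  obtain ⟨l, hl, hlu⟩ := haff _ _ _ (W.1.ι ≫ p ≫ b) (pullback.fst (pullback.snd j p) W.1.ι ≫ pullback.fst j p ≫ a)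
    hsW hWaff (by rw [← pullback.condition_assoc, hw]; simp only [Category.assoc])
  let q₀ : Q ⟶ W.1.toScheme := IsOpenImmersion.lift W.1.ι q (by rwa [Scheme.Opens.range_ι])
  have hq₀ : q₀ ≫ W.1.ι = q := IsOpenImmersion.lift_fac _ _ _
  let qS : pullback (pullback.snd j p) q ⟶ pullback (pullback.snd j p) W.1.ι :=
    pullback.lift (pullback.fst _ _) (pullback.snd _ _ ≫ q₀) (by rw [Category.assoc, hq₀]; exact pullback.condition)
  have hex := isLift_precomp hl (pullback.snd (pullback.snd j p) q) q₀ qS (pullback.lift_snd _ _ _).symm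
  rw [reassoc_of% hq₀, pullback.lift_fst_assoc] at hex
  refine ⟨q₀ ≫ l, hex, fun m hm => ?_⟩
  -- uniqueness over `Q` from uniqueness over its affine opens
  refine Scheme.Cover.hom_ext Q.affineCover _ _ fun k => ?_
  let r := Q.affineCover.f k
  let rS := pullback.fst (pullback.snd (pullback.snd j p) q) r
  refine (haff _ _ (pullback.snd (pullback.snd (pullback.snd j p) q) r) (r ≫ q ≫ p ≫ b)
    (rS ≫ pullback.fst (pullback.snd j p) q ≫ pullback.fst j p ≫ a)
    (isFirstOrderThickening_snd _ (isFirstOrderThickening_snd _ (isFirstOrderThickening_snd j hj p) q) r)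
    inferInstance (by
      rw [← pullback.condition_assoc, ← pullback.condition_assoc, hw]; simp only [rS, r, Category.assoc])).unique ?_ ?_
  · exact isLift_precomp hm _ _ _ pullback.condition.symm
  · exact isLift_precomp hex _ _ _ pullback.condition.symm

/-- The ring of a universal thickening of affine schemes is universal. -/
theorem ringUniv_of_univ (π : B' →ₐ[A] B)
    (hu : OmegaSh.IsUnivThickening (Spec.map (CommRingCat.ofHom (algebraMap A B)))
      (Spec.map (CommRingCat.ofHom π.toRingHom)) (Spec.map (CommRingCat.ofHom (algebraMap A B')))) :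
    OmegaSh.IsUnivThickeningRing A B B' π := by
  obtain ⟨hi, -, huniv⟩ := hu
  haveI := hi.1.1
  have hnat : ∀ x : B', (Spec.map (CommRingCat.ofHom π.toRingHom)).appTop ((Scheme.ΓSpecIso (CommRingCat.of B')).inv x) =
      (Scheme.ΓSpecIso (CommRingCat.of B)).inv (π x) := fun x =>
    (ConcreteCategory.congr_hom (Scheme.ΓSpecIso_inv_naturality (CommRingCat.ofHom π.toRingHom)) x).symm
  refine ⟨fun y => ?_, ?_, fun C _ _ I hI α => ?_⟩
  · obtain ⟨z, hz⟩ := surjective_appTop (i := Spec.map (CommRingCat.ofHom π.toRingHom))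
      ((Scheme.ΓSpecIso (CommRingCat.of B)).inv y)
    refine ⟨(Scheme.ΓSpecIso (CommRingCat.of B')).hom z, (Scheme.ΓSpecIso (CommRingCat.of B)).symm.commRingCatIsoToRingEquiv.injective ?_⟩
    show (Scheme.ΓSpecIso (CommRingCat.of B)).inv (π _) = _
    exact (hnat _).symm.trans ((congrArg (Spec.map (CommRingCat.ofHom π.toRingHom)).appTop
      (ConcreteCategory.congr_hom (Scheme.ΓSpecIso (CommRingCat.of B')).hom_inv_id z)).trans hz)
  · rw [← le_bot_iff, pow_two, Ideal.mul_le]
    intro x hx y hy
    have key : ∀ z, π z = 0 →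
        (Spec.map (CommRingCat.ofHom π.toRingHom)).appTop ((Scheme.ΓSpecIso (CommRingCat.of B')).inv z) = 0 :=
      fun z hz => by rw [hnat, hz, map_zero]
    have h0 := mul_eq_zero_appTop hi (key x hx) (key y hy)
    rw [← map_mul] at h0
    exact (Scheme.ΓSpecIso (CommRingCat.of B')).symm.commRingCatIsoToRingEquiv.injective (h0.trans (map_zero _).symm)
  · let q : C →+* C ⧸ I := Ideal.Quotient.mk I
    obtain ⟨m, ⟨hm₁, hm₂⟩, hmu⟩ := huniv (Spec (CommRingCat.of (C ⧸ I))) (Spec (CommRingCat.of C))
      (Spec.map (CommRingCat.ofHom q)) (Spec.map (CommRingCat.ofHom (algebraMap A C)))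
      (Spec.map (CommRingCat.ofHom α.toRingHom))
      (isFirstOrderThickening_spec q Ideal.Quotient.mk_surjective (by rw [Ideal.mk_ker]; exact hI)) (by
        rw [← Spec.map_comp, ← Spec.map_comp]
        congr 1
        ext r
        exact (α.commutes r).symm)
    obtain ⟨φ, rfl⟩ := Spec.map_surjective m
    rw [← Spec.map_comp, ← Spec.map_comp] at hm₁
    rw [← Spec.map_comp] at hm₂
    let l : B' →ₐ[A] C :=
      { φ.hom with commutes' := fun r => ConcreteCategory.congr_hom (Spec.map_injective hm₂) r }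
    refine ⟨l, AlgHom.ext fun x => ConcreteCategory.congr_hom (Spec.map_injective hm₁) x, fun l' hl' => ?_⟩
    have := hmu (Spec.map (CommRingCat.ofHom l'.toRingHom)) ⟨by
      rw [← Spec.map_comp, ← Spec.map_comp]
      congr 1
      ext x
      exact AlgHom.congr_fun hl' x, by
      rw [← Spec.map_comp]
      congr 1
      ext r
      exact l'.commutes r⟩
    exact AlgHom.ext fun x => ConcreteCategory.congr_hom (Spec.map_injective this) x

end Groth.Agent.Thick12
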