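import Groth.Agent.Lib.Thick12.Glue
import Groth.Agent.Lib.Thick12.Affine
import Mathlib.AlgebraicGeometry.Morphisms.FormallyUnramified
import Mathlib.AlgebraicGeometry.Cover.Directed

/-!
# Existence of universal thickenings

`exists_chart`, `exists_univThickening`.
-/

set_option autoImplicit false
set_option backward.isDefEq.respectTransparency false
set_option backward.isDefEq.respectTransparency.types false
set_option linter.style.haveILetI false

universe u

open CategoryTheory CategoryTheory.Limits AlgebraicGeometry TopologicalSpace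

namespace Groth.Agent.Thick12

variable {Z X : Scheme.{u}}

/-- A formally unramified morphism has universal thickenings over affine charts. -/
theorem exists_chart (h : Z ⟶ X) [FormallyUnramified h] {V : Z.Opens} (hV : IsAffineOpen V) {U : X.Opens}
    (hU : IsAffineOpen U) (hVU : V ≤ h ⁻¹ᵁ U) :
    ∃ (W : Scheme.{u}) (k : V.toScheme ⟶ W) (k' : W ⟶ X), IsAffine W ∧
      OmegaSh.IsUnivThickening (V.ι ≫ h) k k' := by
  let φ := h.appLE U V hVU
  have hφ : φ.hom.FormallyUnramified :=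
    HasRingHomProperty.appLE @FormallyUnramified h inferInstance ⟨U, hU⟩ ⟨V, hV⟩ hVU
  letI := φ.hom.toAlgebra
  haveI : Algebra.FormallyUnramified Γ(X, U) Γ(Z, V) := hφ
  obtain ⟨S', _, _, π, hπ⟩ := exists_univThickeningRing Γ(X, U) Γ(Z, V)
  have hu := univ_spec hπ
  have h1 := univ_comp_openImmersion hU.fromSpec hu
  refine ⟨Spec (CommRingCat.of S'), hV.isoSpec.hom ≫ Spec.map (CommRingCat.ofHom π.toRingHom),
    Spec.map (CommRingCat.ofHom (algebraMap Γ(X, U) S')) ≫ hU.fromSpec, inferInstance,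
    univ_of_iso h1 hV.isoSpec (Iso.refl _) (Iso.refl X) ?_ ?_ ?_⟩
  · show (V.ι ≫ h) ≫ 𝟙 X = hV.isoSpec.hom ≫ Spec.map φ ≫ hU.fromSpec
    rw [Category.comp_id, IsAffineOpen.SpecMap_appLE_fromSpec h hU hV hVU, IsAffineOpen.isoSpec_hom_fromSpec_assoc]
  · simp
  · simp

/-- Affine opens mapping into an affine open. -/
abbrev Small (h : Z ⟶ X) : Type u :=
  {V : Z.Opens // IsAffineOpen V ∧ ∃ U : X.Opens, IsAffineOpen U ∧ V ≤ h ⁻¹ᵁ U}

theorem small_basis (h : Z ⟶ X) {z : Z} {O : Z.Opens} (hz : z ∈ O) :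
    ∃ V : Small h, z ∈ V.1 ∧ V.1 ≤ O := by
  obtain ⟨U, hU, hxU, -⟩ := exists_isAffineOpen_mem_and_subset (X := X) (x := h z) (U := ⊤) trivial
  obtain ⟨V, hV, hzV, hVO⟩ := exists_isAffineOpen_mem_and_subset (X := Z) (x := z) (U := O ⊓ h ⁻¹ᵁ U) ⟨hz, hxU⟩
  exact ⟨⟨V, hV, U, hU, fun x hx => (hVO hx).2⟩, hzV, fun x hx => (hVO hx).1⟩

/-- The cover by small affines. -/
noncomputable def smallCover (h : Z ⟶ X) : Z.OpenCover where
  I₀ := Small h
  X V := V.1
  f V := V.1.ι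
  mem₀ := by
    rw [Scheme.presieve₀_mem_precoverage_iff]
    refine ⟨fun z => ?_, inferInstance⟩
    obtain ⟨V, hV, -⟩ := small_basis h (z := z) (O := ⊤) trivial
    exact ⟨V, ⟨z, hV⟩, rfl⟩

noncomputable instance (h : Z ⟶ X) : Preorder (smallCover h).I₀ := inferInstanceAs <| Preorder (Small h)

noncomputable instance (h : Z ⟶ X) : (smallCover h).LocallyDirected :=
  .ofIsBasisOpensRange (fun {V W} => by
    show V ≤ W ↔ V.1.ι.opensRange ≤ W.1.ι.opensRange
    rw [Scheme.Opens.opensRange_ι, Scheme.Opens.opensRange_ι]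
    rfl) <| by
    rw [Opens.isBasis_iff_nbhd]
    intro O z hz
    obtain ⟨V, hzV, hVO⟩ := small_basis h hz
    refine ⟨V.1, ⟨V, Scheme.Opens.opensRange_ι _⟩, hzV, hVO⟩

section gluing

variable (h : Z ⟶ X) (C : Small h → Scheme.{u}) (k : ∀ V : Small h, V.1.toScheme ⟶ C V) (k' : ∀ V : Small h, C V ⟶ X)
  (hk : ∀ V : Small h, OmegaSh.IsUnivThickening (V.1.ι ≫ h) (k V) (k' V))

include hk in
theorem existsUnique_trans {V W : Small h} (l : V ≤ W) :
    ∃! m : C V ⟶ C W, k V ≫ m = Z.homOfLE l ≫ k W ∧ m ≫ k' W = k' V :=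
  (hk W).2.2 _ _ (k V) (k' V) (Z.homOfLE l) (hk V).1 (by rw [(hk V).2.1, Scheme.homOfLE_ι_assoc])

include hk in
theorem trans_spec {V W : Small h} (l : V ≤ W) {m : C V ⟶ C W}
    (hm : k V ≫ m = Z.homOfLE l ≫ k W ∧ m ≫ k' W = k' V) :
    IsOpenImmersion m ∧ IsPullback (k V) (Z.homOfLE l) m (k W) := by
  haveI := (hk W).1.1.1
  haveI := (hk W).1.1.2
  obtain ⟨O, hO, hOV⟩ := (k W).isClosedEmbedding.isInducing.isOpen_iff.1 (Z.homOfLE l).opensRange.2
  let O' : (C W).Opens := ⟨O, hO⟩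
  let e₀ : V.1.toScheme ⟶ O'.toScheme := IsOpenImmersion.lift O'.ι (Z.homOfLE l ≫ k W) (by
    rintro _ ⟨x, rfl⟩
    rw [Scheme.Opens.range_ι]
    exact hOV.ge ⟨x, rfl⟩)
  have H : IsPullback e₀ (Z.homOfLE l) O'.ι (k W) := by
    refine IsOpenImmersion.isPullback e₀ (Z.homOfLE l) O'.ι (k W) (IsOpenImmersion.lift_fac _ _ _).symm ?_
    rw [Scheme.Opens.opensRange_ι]
    exact Opens.ext hOV
  have h2 := univ_of_openImmersion (hk W) e₀ (Z.homOfLE l) O'.ι H
  rw [Scheme.homOfLE_ι_assoc] at h2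
  obtain ⟨e, he₁, he₂⟩ := exists_iso_of_univ (hk V) h2
  have hme : m = e.hom ≫ O'.ι :=
    (existsUnique_trans h C k k' hk l).unique hm ⟨by rw [reassoc_of% he₁]; exact H.w, by rw [Category.assoc, he₂]⟩
  subst hme
  exact ⟨inferInstance, IsPullback.of_iso H (Iso.refl _) e.symm (Iso.refl _) (Iso.refl _) (by simp [← he₁])
    (by simp) (by simp) (by simp)⟩

include hk in
theorem exists_glued :
    (∀ V, IsAffine (C V)) →
    ∃ (Z' : Scheme.{u}) (i : Z ⟶ Z') (h' : Z' ⟶ X), OmegaSh.IsUnivThickening h i h' := by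
  intro hC
  choose m hm hmu using fun (p : {p : Small h × Small h // p.1 ≤ p.2}) => existsUnique_trans h C k k' hk p.2
  let F : Small h ⥤ Scheme.{u} :=
    { obj := C
      map := fun {V W} f => m ⟨(V, W), leOfHom f⟩
      map_id := fun V => (hmu ⟨(V, V), le_refl V⟩ (𝟙 _) ⟨by simp, by simp⟩).symm
      map_comp := fun {U V W} f g => (hmu ⟨(U, W), (leOfHom f).trans (leOfHom g)⟩ _ ⟨by
        rw [reassoc_of% (hm ⟨(U, V), leOfHom f⟩).1, (hm ⟨(V, W), leOfHom g⟩).1]
        exact Scheme.homOfLE_homOfLE_assoc _ _ _ _, by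
        rw [Category.assoc, (hm ⟨(V, W), leOfHom g⟩).2]; exact (hm ⟨(U, V), leOfHom f⟩).2⟩).symm }
  haveI hF : ∀ {V W : Small h} (f : V ⟶ W), IsOpenImmersion (F.map f) := fun f =>
    (trans_spec h C k k' hk (leOfHom f) (hm ⟨(_, _), leOfHom f⟩)).1
  haveI : (F ⋙ Scheme.forget).IsLocallyDirected := ⟨fun {i j l} fi fj xi xj hx => by
    obtain ⟨zi, rfl⟩ := (hk i).1.1.2.surj xi
    obtain ⟨zj, rfl⟩ := (hk j).1.1.2.surj xj
    haveI := (hk l).1.1.1
    have hx' : (k i ≫ F.map fi) zi = (k j ≫ F.map fj) zj := hx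
    rw [(hm ⟨(i, l), leOfHom fi⟩).1, (hm ⟨(j, l), leOfHom fj⟩).1] at hx'
    have hz : Z.homOfLE (leOfHom fi) zi = Z.homOfLE (leOfHom fj) zj := (k l).isClosedEmbedding.injective hx'
    have hz' : (zi.1 : Z) = zj.1 :=
      (Scheme.homOfLE_apply _ zi).symm.trans ((congrArg Subtype.val hz).trans (Scheme.homOfLE_apply _ zj))
    obtain ⟨V, hV, hVle⟩ := small_basis h (O := i.1 ⊓ j.1) (z := zi.1) ⟨zi.2, hz' ▸ zj.2⟩
    have li : V ≤ i := fun x hx => (hVle hx).1
    have lj : V ≤ j := fun x hx => (hVle hx).2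
    refine ⟨V, homOfLE li, homOfLE lj, k V ⟨zi.1, hV⟩, ?_, ?_⟩
    · show (k V ≫ m ⟨(V, i), li⟩) ⟨zi.1, hV⟩ = k i zi
      rw [(hm ⟨(V, i), li⟩).1]
      exact congrArg (k i) (Subtype.ext (Scheme.homOfLE_apply _ _))
    · show (k V ≫ m ⟨(V, j), lj⟩) ⟨zi.1, hV⟩ = k j zj
      rw [(hm ⟨(V, j), lj⟩).1]
      exact congrArg (k j) (Subtype.ext ((Scheme.homOfLE_apply _ _).trans hz'))⟩
  let g : ∀ V : Small h, V.1.toScheme ⟶ colimit F := fun V => k V ≫ colimit.ι F V
  have hg : ∀ {V W : Small h} (l : V ≤ W), Z.homOfLE l ≫ g W = g V := fun {V W} l => by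
    show Z.homOfLE l ≫ k W ≫ colimit.ι F W = k V ≫ colimit.ι F V
    rw [← colimit.w F (homOfLE l)]
    simp only [← Category.assoc]
    exact congrArg (· ≫ colimit.ι F W) (hm ⟨(V, W), l⟩).1.symm
  let i : Z ⟶ colimit F := (smallCover h).glueMorphismsOfLocallyDirected g (fun {V W} f => by
    refine Eq.trans ?_ (hg (leOfHom f))
    congr 1)
  have hi : ∀ V : Small h, V.1.ι ≫ i = k V ≫ colimit.ι F V := fun V =>
    Scheme.OpenCover.map_glueMorphismsOfLocallyDirected (smallCover h) g _ V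
  let h' : colimit F ⟶ X := colimit.desc F
    { pt := X
      ι := { app := k', naturality := fun V W f => by
              show m ⟨(V, W), leOfHom f⟩ ≫ k' W = k' V ≫ 𝟙 X
              exact (hm ⟨(V, W), leOfHom f⟩).2.trans (Category.comp_id _).symm } }
  have hh' : ∀ V : Small h, colimit.ι F V ≫ h' = k' V := fun V => colimit.ι_desc _ V
  refine ⟨colimit F, i, h', univ_of_openCover h i h' k (fun V : Small h => V.1.ι) (fun V => colimit.ι F V)
    (fun V => ?_) (fun z' => Scheme.IsLocallyDirected.ι_jointly_surjective F z') ?_ fun V => ?_⟩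
  · refine IsOpenImmersion.isPullback _ _ _ _ (hi V) (Opens.ext (Set.Subset.antisymm ?_ ?_))
    · rintro z ⟨x, hx⟩
      rw [Scheme.Opens.opensRange_ι]
      obtain ⟨W, hzW, -⟩ := small_basis h (z := z) (O := ⊤) trivial
      obtain ⟨w, hw⟩ : ∃ w : W.1, W.1.ι w = z := ⟨⟨z, hzW⟩, rfl⟩
      have hz : colimit.ι F W (k W w) = colimit.ι F V x := by
        rw [hx, ← hw, ← Scheme.Hom.comp_apply, ← hi W]
        rfl
      obtain ⟨U, fW, fV, y, hy, -⟩ := (Scheme.IsLocallyDirected.ι_eq_ι_iff F).1 hz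
      obtain ⟨q, rfl⟩ := (hk U).1.1.2.surj y
      haveI := (hk W).1.1.1
      have hq : (k U ≫ F.map fW) q = k W w := hy
      rw [(hm ⟨(U, W), leOfHom fW⟩).1] at hq
      have hqw : (q.1 : Z) = z := (Scheme.homOfLE_apply _ q).symm.trans <| (congrArg Subtype.val ((k W).isClosedEmbedding.injective hq)).trans hw
      exact hqw ▸ leOfHom fV q.2
    · rintro _ ⟨x, rfl⟩
      exact ⟨k V x, by rw [← Scheme.Hom.comp_apply, ← hi V]; rfl⟩
  · refine (smallCover h).hom_ext _ _ fun (V : Small h) => ?_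
    show V.1.ι ≫ i ≫ h' = V.1.ι ≫ h
    rw [reassoc_of% (hi V), hh', (hk V).2.1]
  · rw [hh']
    exact hk V

end gluing

/-- A formally unramified morphism has a universal first order thickening. -/
theorem exists_univThickening (h : Z ⟶ X) [FormallyUnramified h] :
    ∃ (Z' : Scheme.{u}) (i : Z ⟶ Z') (h' : Z' ⟶ X), OmegaSh.IsUnivThickening h i h' := by
  choose C k k' hC hk using fun V : Small h =>
    exists_chart h V.2.1 V.2.2.choose_spec.1 V.2.2.choose_spec.2
  exact exists_glued h C k k' hk hC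

end Groth.Agent.Thick12
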