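import Groth.Agent.Lib.Thick12.Glue
import Groth.Agent.Lib.Thick12.Affine
import Groth.Agent.Lib.GrMap12.Conormal
import Groth.Agent.Lib.GrMap12.MonoRel
import Mathlib.AlgebraicGeometry.AffineScheme

/-!
# Universal thickenings and formally smooth morphisms

`exists_lift_of_thickening`, `exists_retraction`, `mono_of_locally_split`.
-/

set_option autoImplicit false
set_option backward.isDefEq.respectTransparency false
set_option backward.isDefEq.respectTransparency.types false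
set_option linter.style.haveILetI false

universe u

open CategoryTheory CategoryTheory.Limits AlgebraicGeometry TopologicalSpace Opposite

namespace Groth.Agent.Thick12

variable {Z X Y : Scheme.{u}}

/-- Formally smooth morphisms lift along first order thickenings of affine schemes. -/
theorem exists_lift_of_thickening {p : X ⟶ Y} (hp : MoreMor.IsFormallySmoothHom p) {T T' : Scheme.{u}} (j : T ⟶ T')
    (hj : MoreMor.IsFirstOrderThickening j) [IsAffine T'] (a : T ⟶ X) (b : T' ⟶ Y) (w : j ≫ b = a ≫ p) :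
    ∃ g : T' ⟶ X, j ≫ g = a ∧ g ≫ p = b := by
  haveI := hj.1.1
  haveI : IsAffine T := isAffine_of_isAffineHom j
  let I : Ideal Γ(T', ⊤) := RingHom.ker j.appTop.hom
  have hI : I ^ 2 = ⊥ := by
    rw [← le_bot_iff, pow_two, Ideal.mul_le]
    exact fun x hx y hy => Ideal.mem_bot.2 (mul_eq_zero_appTop hj hx hy)
  let e : CommRingCat.of (Γ(T', ⊤) ⧸ I) ≅ Γ(T, ⊤) :=
    (RingHom.quotientKerEquivOfSurjective (surjective_appTop (i := j))).toCommRingCatIso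
  have he : CommRingCat.ofHom (Ideal.Quotient.mk I) ≫ e.hom = j.appTop := by
    ext x; rfl
  let θ : Spec (CommRingCat.of (Γ(T', ⊤) ⧸ I)) ⟶ T := Spec.map e.inv ≫ T.isoSpec.inv
  have hθ : Spec.map (CommRingCat.ofHom (Ideal.Quotient.mk I)) ≫ T'.isoSpec.inv = θ ≫ j := by
    have h1 : Spec.map (CommRingCat.ofHom (Ideal.Quotient.mk I)) = Spec.map e.inv ≫ Spec.map j.appTop := by
      rw [← Spec.map_comp, ← he, Category.assoc, Iso.hom_inv_id, Category.comp_id]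
    rw [h1, Category.assoc, Category.assoc, Scheme.isoSpec_inv_naturality]
  obtain ⟨l, hl₁, hl₂⟩ := hp Γ(T', ⊤) I hI (θ ≫ a) (T'.isoSpec.inv ≫ b) (by
    rw [← Category.assoc, hθ, Category.assoc, w]; simp only [θ, Category.assoc])
  refine ⟨T'.isoSpec.hom ≫ l, ?_, by rw [Category.assoc, hl₂, Iso.hom_inv_id_assoc]⟩
  rw [← cancel_epi θ, ← reassoc_of% hθ, Iso.inv_hom_id_assoc]
  exact hl₁

/-- Locally split monomorphisms are monomorphisms. -/
theorem mono_of_locally_split {M N : Z.Modules} (ψ : M ⟶ N)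
    (h : ∀ z : Z, ∃ (U : Z.Opens) (r : (Scheme.Modules.restrictFunctor U.ι).obj N ⟶ (Scheme.Modules.restrictFunctor U.ι).obj M),
      z ∈ U ∧ (Scheme.Modules.restrictFunctor U.ι).map ψ ≫ r = 𝟙 _) : Mono ψ := by
  have hinj : ∀ (O : Z.Opens) (m : Γ(M, O)), ψ.app O m = 0 → m = 0 := fun O m hm => M1.section_ext _ _ fun x hx => by
    obtain ⟨U, r, hxU, hr⟩ := h x
    let W := U.ι ⁻¹ᵁ O
    have hle : U.ι ''ᵁ W ≤ O := by
      rw [Scheme.Hom.image_preimage_eq_opensRange_inf]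
      exact inf_le_right
    have hxW : x ∈ U.ι ''ᵁ W := ⟨⟨x, hxU⟩, hx, rfl⟩
    have h1 : M1.mres M hle m = 0 := by
      have h2 : r.app W (ψ.app (U.ι ''ᵁ W) (M1.mres M hle m)) = M1.mres M hle m :=
        congrArg (fun χ => Scheme.Modules.Hom.app χ W (M1.mres M hle m)) hr
      rw [M1.app_mres ψ hle m, hm, map_zero] at h2
      exact h2.symm.trans (map_zero (r.app W).hom)
    rw [← M1.germ_mres M hle hxW, h1, map_zero, map_zero]
  refine Preadditive.mono_of_cancel_zero _ fun {F} α hα => ?_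
  ext O m
  refine (hinj O _ ?_).trans (by simp)
  exact (congrArg (fun χ => Scheme.Modules.Hom.app χ O m) hα).trans (by simp)

variable {Z' Z'' : Scheme.{u}} {i : Z ⟶ X} {p : X ⟶ Y} {i' : Z ⟶ Z'} {a : Z' ⟶ X} {i'' : Z ⟶ Z''} {b : Z'' ⟶ Y}
  {k : Z' ⟶ Z''}

theorem e1 {A : Scheme.{u}} (G : A.Modules) (O : A.Opens) (x : Γ(G, O)) : M1.mres G (le_rfl : O ≤ O) x = x :=
  ConcreteCategory.congr_hom (G.presheaf.map_id (op O)) x

/-- The conormal map of the thickenings is locally a split monomorphism. -/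
theorem exists_retraction (hp : MoreMor.IsFormallySmoothHom p) (hZ' : OmegaSh.IsUnivThickening i i' a)
    (hZ'' : OmegaSh.IsUnivThickening (i ≫ p) i'' b) (hk₁ : i' ≫ k = i'') (hk₂ : k ≫ b = a ≫ p)
    {ψ : (Scheme.Modules.pullback (𝟙 Z)).obj (Omega.conormal i'') ⟶ Omega.conormal i'}
    (hψ : OmegaSh.IsConormalMap i' i'' k (𝟙 Z) ψ) (z : Z) :
    ∃ (U : Z.Opens) (r : (Scheme.Modules.restrictFunctor U.ι).obj (Omega.conormal i') ⟶
          (Scheme.Modules.restrictFunctor U.ι).obj ((Scheme.Modules.pullback (𝟙 Z)).obj (Omega.conormal i''))),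
        z ∈ U ∧ (Scheme.Modules.restrictFunctor U.ι).map ψ ≫ r = 𝟙 _ := by
  haveI := hZ'.1.1.1
  haveI := hZ''.1.1.1
  obtain ⟨U'', hU'', hzU'', -⟩ := exists_isAffineOpen_mem_and_subset (X := Z'') (x := i'' z) (U := ⊤) trivial
  obtain ⟨U, hUeq⟩ : ∃ U : Z.Opens, U = i'' ⁻¹ᵁ U'' := ⟨_, rfl⟩
  let iU : U.toScheme ⟶ U''.toScheme := i''.resLE U'' U hUeq.le
  have hiU : iU ≫ U''.ι = U.ι ≫ i'' := Scheme.Hom.resLE_comp_ι _ _
  have hsq : IsPullback U.ι iU i'' U''.ι := by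
    refine (IsOpenImmersion.isPullback iU U.ι U''.ι i'' hiU.symm ?_).flip
    rw [Scheme.Opens.opensRange_ι, Scheme.Opens.opensRange_ι, hUeq]
  have hj : MoreMor.IsFirstOrderThickening iU := isFirstOrderThickening_of_isPullback hsq.flip hZ''.1
  haveI : IsAffine U''.toScheme := hU''
  obtain ⟨g, hg₁, hg₂⟩ := exists_lift_of_thickening hp iU hj (U.ι ≫ i) (U''.ι ≫ b) (by
    rw [reassoc_of% hiU, hZ''.2.1, Category.assoc])
  obtain ⟨σ, ⟨hσ₁, hσ₂⟩, -⟩ := hZ'.2.2 _ _ iU g U.ι hj hg₁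
  have hσk : σ ≫ k = U''.ι := by
    refine (hZ''.2.2 _ _ iU (U''.ι ≫ b) U.ι hj (by rw [reassoc_of% hiU, hZ''.2.1])).unique ⟨?_, ?_⟩ ⟨hiU, rfl⟩
    · rw [reassoc_of% hσ₁, hk₁]
    · rw [Category.assoc, hk₂, reassoc_of% hσ₂, hg₂]
  obtain ⟨φ, hφ, -⟩ := GrMap12.existsUnique_conormalMap (i := iU) (i' := i'') (gZ := U.ι) (g := U''.ι) hiU.symm
  haveI : IsIso φ := (GrMap12.epi_and_isIso_of_isPullback hsq hφ).2 inferInstance
  obtain ⟨ρ, hρ, -⟩ := GrMap12.existsUnique_conormalMap (i := iU) (i' := i') (gZ := U.ι) (g := σ) hσ₁.symm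
  -- the composite of `ψ` with `ρ` is `φ`
  have key : (Scheme.Modules.pullback U.ι).map (GrMap12.psi₀ ψ) ≫ ρ = φ := by
    apply ((Scheme.Modules.pullbackPushforwardAdjunction U.ι).homEquiv _ _).injective
    apply ((Scheme.Modules.pullbackPushforwardAdjunction i'').homEquiv _ _).injective
    ext V s
    simp only [Adjunction.homEquiv_unit]
    let O := i'' ⁻¹ᵁ V
    let q : Γ(Omega.conormal i'', O) := OmegaSh.conormalSect i'' V s
    show ρ.app (U.ι ⁻¹ᵁ O) (((Scheme.Modules.pullback U.ι).map (GrMap12.psi₀ ψ)).app (U.ι ⁻¹ᵁ O)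
      (OmegaSh.pullSect U.ι _ O q)) = φ.app (U.ι ⁻¹ᵁ O) (OmegaSh.pullSect U.ι _ O q)
    have hnat : ((Scheme.Modules.pullback U.ι).map (GrMap12.psi₀ ψ)).app (U.ι ⁻¹ᵁ O) (OmegaSh.pullSect U.ι _ O q) =
        OmegaSh.pullSect U.ι (Omega.conormal i') O ((GrMap12.psi₀ ψ).app O q) :=
      (congrArg (fun χ => Scheme.Modules.Hom.app χ O q)
        ((Scheme.Modules.pullbackPushforwardAdjunction U.ι).unit.naturality (GrMap12.psi₀ ψ))).symm
    rw [hnat]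
    obtain ⟨t, ht⟩ := GrMap12.exists_lift_idealSect (i := i') hk₁ s
    have hOle : O ≤ i' ⁻¹ᵁ (k ⁻¹ᵁ V) := by
      show i'' ⁻¹ᵁ V ≤ _
      rw [← Scheme.Hom.comp_preimage, hk₁]
    have hψq : (GrMap12.psi₀ ψ).app O q = M1.mres (Omega.conormal i') hOle (OmegaSh.conormalSect i' (k ⁻¹ᵁ V) t) :=
      (congrArg ((GrMap12.psi₀ ψ).app O) (e1 _ _ q)).symm.trans (GrMap12.psi₀_conormalSect hψ hk₁ V s (k ⁻¹ᵁ V) le_rfl t
        (by rw [ht, ← Scheme.Hom.app_eq_appLE]) O le_rfl hOle)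
    rw [hψq]
    have hps : OmegaSh.pullSect U.ι (Omega.conormal i') O (M1.mres (Omega.conormal i') hOle
        (OmegaSh.conormalSect i' (k ⁻¹ᵁ V) t)) =
        M1.mres ((Scheme.Modules.pullback U.ι).obj (Omega.conormal i')) (U.ι.preimage_mono hOle)
          (OmegaSh.pullSect U.ι (Omega.conormal i') (i' ⁻¹ᵁ (k ⁻¹ᵁ V)) (OmegaSh.conormalSect i' (k ⁻¹ᵁ V) t)) :=
      M1.app_mres ((Scheme.Modules.pullbackPushforwardAdjunction U.ι).unit.app (Omega.conormal i')) hOle _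
    rw [hps, M1.app_mres]
    obtain ⟨s₂, hs₂⟩ : ∃ s₂ : Γ(ClSub.idealMod iU.ker, U''.ι ⁻¹ᵁ V),
        M2.idealIncl iU.ker s₂ = U''.ι.app V (M2.idealIncl i''.ker s) :=
      ⟨_, GrMap12.idealIncl_psi U''.ι i''.ker iU.ker (GrMap12.ker_le_map (gZ := U.ι) hiU.symm) s⟩
    obtain ⟨s₃, hs₃⟩ : ∃ s₃ : Γ(ClSub.idealMod iU.ker, σ ⁻¹ᵁ (k ⁻¹ᵁ V)),
        M2.idealIncl iU.ker s₃ = σ.app (k ⁻¹ᵁ V) (M2.idealIncl i'.ker t) :=
      ⟨_, GrMap12.idealIncl_psi σ i'.ker iU.ker (GrMap12.ker_le_map (gZ := U.ι) hσ₁.symm) t⟩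
    have hV₁ : U.ι ⁻¹ᵁ O ≤ iU ⁻¹ᵁ (U''.ι ⁻¹ᵁ V) := by
      show U.ι ⁻¹ᵁ (i'' ⁻¹ᵁ V) ≤ _
      rw [← Scheme.Hom.comp_preimage, ← Scheme.Hom.comp_preimage, hiU]
    have hle2 : U''.ι ⁻¹ᵁ V ≤ σ ⁻¹ᵁ (k ⁻¹ᵁ V) := by
      rw [← Scheme.Hom.comp_preimage, hσk]
    have h3 : s₂ = M1.mres (ClSub.idealMod iU.ker) hle2 s₃ := M2.idealIncl_injective iU.ker _ (by
      rw [GrMap12.idealIncl_mres, hs₂, hs₃, ht, ← CategoryTheory.comp_apply (k.app V) (σ.app (k ⁻¹ᵁ V)),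
        ← Scheme.Hom.comp_app, Scheme.Hom.congr_app hσk]
      rw [CategoryTheory.comp_apply, ← CategoryTheory.comp_apply _ (U''.toScheme.presheaf.map (homOfLE hle2).op)]
      rw [← Functor.map_comp]
      exact (ConcreteCategory.congr_hom (U''.toScheme.presheaf.map_id (op (U''.ι ⁻¹ᵁ V))) _).symm)
    have hR : M1.mres (Omega.conormal iU) (U.ι.preimage_mono hOle)
        (ρ.app (U.ι ⁻¹ᵁ (i' ⁻¹ᵁ (k ⁻¹ᵁ V))) (OmegaSh.pullSect U.ι _ (i' ⁻¹ᵁ (k ⁻¹ᵁ V))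
          (OmegaSh.conormalSect i' (k ⁻¹ᵁ V) t))) =
        M1.mres (Omega.conormal iU) (hV₁.trans (iU.preimage_mono hle2))
          (OmegaSh.conormalSect iU (σ ⁻¹ᵁ (k ⁻¹ᵁ V)) s₃) :=
      hρ.2 (k ⁻¹ᵁ V) t s₃ hs₃ _ (U.ι.preimage_mono hOle) (hV₁.trans (iU.preimage_mono hle2))
    rw [hR]
    have hL : M1.mres (Omega.conormal iU) (le_rfl : U.ι ⁻¹ᵁ O ≤ _) (φ.app (U.ι ⁻¹ᵁ O) (OmegaSh.pullSect U.ι _ O q)) =
        M1.mres (Omega.conormal iU) hV₁ (OmegaSh.conormalSect iU (U''.ι ⁻¹ᵁ V) s₂) :=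
      hφ.2 V s s₂ hs₂ _ le_rfl hV₁
    rw [e1] at hL
    rw [hL, h3, GrMap12.conormalSect_mres, M1.mres_mres]
  let R := ρ ≫ inv φ
  have hR : (Scheme.Modules.pullback U.ι).map (GrMap12.psi₀ ψ) ≫ R = 𝟙 _ := by
    rw [← Category.assoc, key, IsIso.hom_inv_id]
  let η := Scheme.Modules.restrictFunctorIsoPullback U.ι
  refine ⟨U, η.hom.app _ ≫ R ≫ η.inv.app _ ≫
    (Scheme.Modules.restrictFunctor U.ι).map ((Scheme.Modules.pullbackId Z).inv.app (Omega.conormal i'')),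
    by rw [hUeq]; exact hzU'', ?_⟩
  have hψe : ψ = (Scheme.Modules.pullbackId Z).hom.app (Omega.conormal i'') ≫ GrMap12.psi₀ ψ := by
    simp [GrMap12.psi₀]
  conv_lhs => arg 1; rw [hψe, Functor.map_comp]
  rw [Category.assoc, ← Category.assoc ((Scheme.Modules.restrictFunctor U.ι).map (GrMap12.psi₀ ψ)),
    NatTrans.naturality, Category.assoc, reassoc_of% hR]
  rw [← Category.assoc (η.hom.app _), Iso.hom_inv_id_app, Category.id_comp]
  exact ((Scheme.Modules.restrictFunctor U.ι).map_comp _ _).symm.trans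
    ((congrArg _ ((Scheme.Modules.pullbackId Z).hom_inv_id_app _)).trans ((Scheme.Modules.restrictFunctor U.ι).map_id _))

end Groth.Agent.Thick12
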