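import Groth.Prelude.Def_Omega3
import Groth.Agent.Lib.FormalH7.Ideal
import Groth.Agent.Lib.EffCartier.Mul

/-!
# Formal properties of universal first order thickenings of schemes

`isUnivThickening_firstOrderNbhd`, `isUnivThickening_baseChange`, `isUnivThickening_restrict`,
`exists_map_isUnivThickening_comp`.
-/

set_option autoImplicit false
set_option backward.isDefEq.respectTransparency false
set_option backward.isDefEq.respectTransparency.types false
set_option linter.style.haveILetI false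

universe u

open CategoryTheory CategoryTheory.Limits AlgebraicGeometry TopologicalSpace

namespace Groth.Agent.Thick12

variable {X Y Z T T' : Scheme.{u}}

theorem mul_le_mul' {A B C D : X.IdealSheafData} (h : A ≤ B) (h' : C ≤ D) : A * C ≤ B * D := fun V => by
  rw [Scheme.IdealSheafData.ideal_mul, Scheme.IdealSheafData.ideal_mul]
  exact Ideal.mul_mono (h V) (h' V)

theorem comap_self_subschemeι (J : X.IdealSheafData) : J.comap J.subschemeι = ⊥ := by
  refine le_bot_iff.1 (Scheme.IdealSheafData.le_map_iff_comap_le.1 ?_)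
  rw [Scheme.IdealSheafData.map_bot, Scheme.IdealSheafData.ker_subschemeι]

/-- First order thickenings are stable under base change. -/
theorem isFirstOrderThickening_of_isPullback {X' Y' : Scheme.{u}} {i : X ⟶ Y} {i' : X' ⟶ Y'} {a : X' ⟶ X}
    {b : Y' ⟶ Y} (H : IsPullback i' a b i) (hi : MoreMor.IsFirstOrderThickening i) :
    MoreMor.IsFirstOrderThickening i' := by
  haveI := hi.1.1
  haveI := hi.1.2
  refine ⟨⟨MorphismProperty.of_isPullback H.flip inferInstance, MorphismProperty.of_isPullback H.flip inferInstance⟩, ?_⟩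
  rw [FormalH7.ker_of_isPullback H, ← EffCartier.comap_mul, hi.2, Scheme.IdealSheafData.comap_bot]

/-- A morphism out of a thickening lands in an open containing the image of the closed part. -/
theorem range_subset_of_surjective {j : T ⟶ T'} (hj : Surjective j) {g : T' ⟶ X} {g₀ : T ⟶ X} (h : j ≫ g = g₀)
    {U : Set X} (hU : Set.range g₀ ⊆ U) : Set.range g ⊆ U := by
  rintro _ ⟨t', rfl⟩
  obtain ⟨t, rfl⟩ := hj.surj t'
  exact hU ⟨t, by rw [← h]; rfl⟩

theorem isPullback_mono {P : Scheme.{u}} (l : Z ⟶ P) (p : P ⟶ X) [Mono p] (i : Z ⟶ X) (h : l ≫ p = i) :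
    IsPullback l (𝟙 Z) p i :=
  ⟨⟨by rw [h, Category.id_comp]⟩, ⟨PullbackCone.IsLimit.mk _ (fun s => s.snd)
    (fun s => by rw [← cancel_mono p, Category.assoc, h]; exact s.condition.symm)
    (fun s => Category.comp_id _)
    (fun s m _ h2 => by simpa using h2)⟩⟩

/-- The first order neighbourhood of an immersion is universal. -/
theorem isUnivThickening_firstOrderNbhd (U : X.Opens) (I : (U : Scheme.{u}).IdealSheafData) (h : I ^ 2 ≤ I) :
    OmegaSh.IsUnivThickening (I.subschemeι ≫ U.ι) (Scheme.IdealSheafData.inclusion h)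
      ((I ^ 2).subschemeι ≫ U.ι) := by
  have hfac := Scheme.IdealSheafData.inclusion_subschemeι h
  refine ⟨?_, by rw [← Category.assoc, hfac], fun T T' j b a hj hjb => ?_⟩
  · haveI : IsClosedImmersion (Scheme.IdealSheafData.inclusion h) := by
      haveI : IsClosedImmersion (Scheme.IdealSheafData.inclusion h ≫ (I ^ 2).subschemeι) := by
        rw [hfac]; infer_instance
      exact IsClosedImmersion.of_comp_isClosedImmersion _ (I ^ 2).subschemeι
    refine ⟨⟨inferInstance, ⟨fun z => ?_⟩⟩, ?_⟩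
    · have hz : (I ^ 2).subschemeι z ∈ Set.range I.subschemeι := by
        rw [I.range_subschemeι]
        have h1 : (I ^ 2).subschemeι z ∈ ((I ^ 2).support : Set _) := (I ^ 2).range_subschemeι ▸ Set.mem_range_self z
        rwa [Scheme.IdealSheafData.support_pow _ 2 two_ne_zero] at h1
      obtain ⟨p, hp⟩ := hz
      exact ⟨p, (I ^ 2).subschemeι.isClosedEmbedding.injective (by rw [← Scheme.Hom.comp_apply, hfac, hp])⟩
    · rw [FormalH7.ker_of_isPullback (isPullback_mono _ (I ^ 2).subschemeι _ hfac), ← EffCartier.comap_mul,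
        Scheme.IdealSheafData.ker_subschemeι, ← pow_two, comap_self_subschemeι]
  · have hrange : Set.range b ⊆ Set.range U.ι := by
      refine range_subset_of_surjective hj.1.2 hjb ?_
      rintro _ ⟨t, rfl⟩
      exact ⟨I.subschemeι (a t), rfl⟩
    let b₀ := IsOpenImmersion.lift U.ι b hrange
    have hb₀ : b₀ ≫ U.ι = b := IsOpenImmersion.lift_fac _ _ _
    have hjb₀ : j ≫ b₀ = a ≫ I.subschemeι := by
      rw [← cancel_mono U.ι, Category.assoc, hb₀, hjb, Category.assoc]
    have h1 : I.comap b₀ ≤ j.ker := by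
      rw [← Scheme.IdealSheafData.le_map_iff_comap_le, ← Scheme.Hom.ker_comp, hjb₀]
      exact (Scheme.IdealSheafData.ker_subschemeι I).ge.trans (Scheme.Hom.le_ker_comp _ _)
    have h2 : (I ^ 2).subschemeι.ker ≤ b₀.ker := by
      rw [Scheme.IdealSheafData.ker_subschemeι, ← Scheme.IdealSheafData.map_bot b₀,
        Scheme.IdealSheafData.le_map_iff_comap_le, pow_two, EffCartier.comap_mul]
      exact (mul_le_mul' h1 h1).trans hj.2.le
    refine ⟨IsClosedImmersion.lift (I ^ 2).subschemeι b₀ h2, ⟨?_, ?_⟩, fun m hm => ?_⟩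
    · rw [← cancel_mono (I ^ 2).subschemeι, Category.assoc, IsClosedImmersion.lift_fac, hjb₀, Category.assoc, hfac]
    · rw [← Category.assoc, IsClosedImmersion.lift_fac, hb₀]
    · rw [← cancel_mono ((I ^ 2).subschemeι ≫ U.ι), hm.2, ← Category.assoc, IsClosedImmersion.lift_fac, hb₀]

/-- Universal thickenings commute with base change. -/
theorem isUnivThickening_baseChange {W W' : Scheme.{u}} (h : Z ⟶ X) (f : Z ⟶ W) (g : X ⟶ Y) (h' : W ⟶ Y)
    (hc : IsPullback h f g h') (j : W ⟶ W') (k : W' ⟶ Y) (hu : OmegaSh.IsUnivThickening h' j k) :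
    OmegaSh.IsUnivThickening h (pullback.lift h (f ≫ j) (hc.w.trans (congrArg (f ≫ ·) hu.2.1).symm |>.trans
      (Category.assoc _ _ _).symm)) (pullback.fst g k) := by
  obtain ⟨hj, hjk, huniv⟩ := hu
  subst hjk
  let L := pullback.lift h (f ≫ j) (hc.w.trans (Category.assoc f j k).symm)
  have hsq : IsPullback L f (pullback.snd g k) j := by
    refine IsPullback.of_right (h₁₂ := pullback.fst g k) (v₁₃ := g) (h₂₂ := k) ?_ (pullback.lift_snd _ _ _)
      (IsPullback.of_hasPullback g k)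
    rw [pullback.lift_fst]
    exact hc
  refine ⟨isFirstOrderThickening_of_isPullback hsq hj, pullback.lift_fst _ _ _, fun T T' jT b a hjT hb => ?_⟩
  obtain ⟨a', ⟨ha₁, ha₂⟩, hau⟩ := huniv T T' jT (b ≫ g) (a ≫ f) hjT (by
    rw [← Category.assoc, hb, Category.assoc, hc.w, Category.assoc])
  refine ⟨pullback.lift b a' ha₂.symm, ⟨?_, pullback.lift_fst _ _ _⟩, fun m hm => ?_⟩
  · apply pullback.hom_ext
    · simp only [Category.assoc, pullback.lift_fst, hb]
    · simp only [Category.assoc, pullback.lift_snd, ha₁]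
  · apply pullback.hom_ext
    · rw [hm.2, pullback.lift_fst]
    · rw [pullback.lift_snd]
      refine hau _ ⟨?_, ?_⟩
      · rw [← Category.assoc, hm.1, Category.assoc, pullback.lift_snd, Category.assoc]
      · rw [Category.assoc, ← pullback.condition, ← Category.assoc, hm.2]

/-- Universal thickenings restrict to opens. -/
theorem isUnivThickening_restrict {Z' : Scheme.{u}} (h : Z ⟶ X) (i : Z ⟶ Z') (h' : Z' ⟶ X)
    (hu : OmegaSh.IsUnivThickening h i h') (V : Z.Opens) (U : X.Opens) (hVU : V ≤ h ⁻¹ᵁ U)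
    (V' : Z'.Opens) (hV' : i ⁻¹ᵁ V' = V) (hV'U : V' ≤ h' ⁻¹ᵁ U) :
    OmegaSh.IsUnivThickening (h.resLE U V hVU) (i.resLE V' V hV'.ge) (h'.resLE U V' hV'U) := by
  subst hV'
  obtain ⟨hi, hih, huniv⟩ := hu
  refine ⟨?_, ?_, fun T T' j b a hj hjb => ?_⟩
  · have e : i.resLE V' (i ⁻¹ᵁ V') le_rfl = i ∣_ V' := by
      rw [← cancel_mono V'.ι, Scheme.Hom.resLE_comp_ι, morphismRestrict_ι]
    show MoreMor.IsFirstOrderThickening (i.resLE V' (i ⁻¹ᵁ V') le_rfl)
    rw [e]
    exact isFirstOrderThickening_of_isPullback (isPullback_morphismRestrict i V') hi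
  · rw [← cancel_mono U.ι, Category.assoc, Scheme.Hom.resLE_comp_ι, Scheme.Hom.resLE_comp_ι_assoc,
      Scheme.Hom.resLE_comp_ι, hih]
  · obtain ⟨a', ⟨ha₁, ha₂⟩, hau⟩ := huniv T T' j (b ≫ U.ι) (a ≫ (i ⁻¹ᵁ V').ι) hj (by
      rw [← Category.assoc, hjb, Category.assoc, Scheme.Hom.resLE_comp_ι, Category.assoc])
    have hrange : Set.range a' ⊆ Set.range V'.ι := by
      refine range_subset_of_surjective hj.1.2 ha₁ ?_
      rintro _ ⟨t, rfl⟩
      exact ⟨(i.resLE V' (i ⁻¹ᵁ V') le_rfl) (a t), by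
        rw [← Scheme.Hom.comp_apply, Scheme.Hom.resLE_comp_ι]; rfl⟩
    refine ⟨IsOpenImmersion.lift V'.ι a' hrange, ⟨?_, ?_⟩, fun m hm => ?_⟩
    · rw [← cancel_mono V'.ι, Category.assoc, IsOpenImmersion.lift_fac, ha₁, Category.assoc, Category.assoc,
        Scheme.Hom.resLE_comp_ι]
    · rw [← cancel_mono U.ι, Category.assoc, Scheme.Hom.resLE_comp_ι, IsOpenImmersion.lift_fac_assoc, ha₂]
    · rw [← cancel_mono V'.ι, IsOpenImmersion.lift_fac]
      refine hau _ ⟨?_, ?_⟩
      · rw [← Category.assoc, hm.1, Category.assoc, Scheme.Hom.resLE_comp_ι, Category.assoc]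
      · rw [Category.assoc, ← Scheme.Hom.resLE_comp_ι h' hV'U, ← Category.assoc, hm.2]

/-- Transitivity of universal thickenings. -/
theorem exists_map_isUnivThickening_comp {Z' Y' : Scheme.{u}} (a : Z ⟶ Y) (b : Y ⟶ X)
    (i : Z ⟶ Z') (c : Z' ⟶ X) (hZ : OmegaSh.IsUnivThickening (a ≫ b) i c)
    (j : Y ⟶ Y') (d : Y' ⟶ X) (hY : OmegaSh.IsUnivThickening b j d) :
    ∃ (m : Z' ⟶ Y') (hm : i ≫ m = a ≫ j), m ≫ d = c ∧
      OmegaSh.IsUnivThickening a (pullback.lift a i hm.symm) (pullback.fst j m) := by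
  obtain ⟨hi, hic, hZu⟩ := hZ
  obtain ⟨hj, hjd, hYu⟩ := hY
  obtain ⟨m, ⟨hm, hmd⟩, -⟩ := hYu Z Z' i c a hi hic
  refine ⟨m, hm, hmd, ?_⟩
  haveI := hj.1.1
  let L := pullback.lift a i hm.symm
  have hL : L ≫ pullback.snd j m = i := pullback.lift_snd _ _ _
  have hfst : pullback.fst j m ≫ b = pullback.snd j m ≫ c := by
    rw [← hjd, pullback.condition_assoc, hmd]
  refine ⟨?_, pullback.lift_fst _ _ _, fun T T' jT b₀ a₀ hjT hb₀ => ?_⟩
  · haveI := hi.1.1
    haveI : IsClosedImmersion (L ≫ pullback.snd j m) := by rw [hL]; infer_instance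
    haveI : IsClosedImmersion L := IsClosedImmersion.of_comp_isClosedImmersion L (pullback.snd j m)
    refine ⟨⟨inferInstance, ⟨fun p => ?_⟩⟩, ?_⟩
    · obtain ⟨z, hz⟩ := hi.1.2.surj (pullback.snd j m p)
      exact ⟨z, (pullback.snd j m).isClosedEmbedding.injective (by rw [← Scheme.Hom.comp_apply, hL, hz])⟩
    · rw [FormalH7.ker_of_isPullback (isPullback_mono L (pullback.snd j m) i hL), ← EffCartier.comap_mul, hi.2,
        Scheme.IdealSheafData.comap_bot]
  · obtain ⟨a', ⟨ha₁, ha₂⟩, hau⟩ := hZu T T' jT (b₀ ≫ b) a₀ hjT (by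
      rw [← Category.assoc, hb₀, Category.assoc])
    have key : b₀ ≫ j = a' ≫ m := by
      refine (hYu T T' jT (b₀ ≫ b) (a₀ ≫ a) hjT (by rw [← Category.assoc, hb₀])).unique ⟨?_, ?_⟩ ⟨?_, ?_⟩
      · rw [← Category.assoc, hb₀]
      · rw [Category.assoc, hjd]
      · rw [← Category.assoc, ha₁, Category.assoc, hm, Category.assoc]
      · rw [Category.assoc, hmd, ha₂]
    refine ⟨pullback.lift b₀ a' key, ⟨?_, pullback.lift_fst _ _ _⟩, fun n hn => ?_⟩
    · apply pullback.hom_ext
      · simp only [L, Category.assoc, pullback.lift_fst, hb₀]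
      · simp only [L, Category.assoc, pullback.lift_snd, ha₁]
    · apply pullback.hom_ext
      · rw [hn.2, pullback.lift_fst]
      · rw [pullback.lift_snd]
        refine hau _ ⟨?_, ?_⟩
        · rw [← Category.assoc, hn.1, Category.assoc]
          exact congrArg (a₀ ≫ ·) hL
        · rw [Category.assoc, ← hfst, ← Category.assoc, hn.2]

end Groth.Agent.Thick12
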