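import Groth.Agent.Lib.Thick12.Local
import Mathlib.AlgebraicGeometry.Morphisms.ClosedImmersion

/-!
# Restriction, uniqueness and gluing of universal thickenings

`univ_of_openImmersion`, `exists_iso_of_univ`, `univ_of_openCover`.
-/

set_option autoImplicit false
set_option backward.isDefEq.respectTransparency false
set_option backward.isDefEq.respectTransparency.types false
set_option linter.style.haveILetI false

universe u

open CategoryTheory CategoryTheory.Limits AlgebraicGeometry TopologicalSpace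

namespace Groth.Agent.Thick12

variable {Z Z' X : Scheme.{u}}

/-- Restriction of a universal thickening along an open immersion. -/
theorem univ_of_openImmersion {W W' : Scheme.{u}} {h : Z ⟶ X} {i : Z ⟶ Z'} {h' : Z' ⟶ X}
    (hu : OmegaSh.IsUnivThickening h i h') (k : W ⟶ W') (v : W ⟶ Z) (v' : W' ⟶ Z') [IsOpenImmersion v']
    (H : IsPullback k v v' i) : OmegaSh.IsUnivThickening (v ≫ h) k (v' ≫ h') := by
  obtain ⟨hi, hih, huniv⟩ := hu
  refine ⟨isFirstOrderThickening_of_isPullback H hi, by rw [reassoc_of% H.w, hih], fun T T' j b a hj hjb => ?_⟩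
  obtain ⟨a', ⟨h₁, h₂⟩, hun⟩ := huniv T T' j b (a ≫ v) hj (by rw [hjb, Category.assoc])
  have hr : Set.range a' ⊆ Set.range v' := by
    refine range_subset_of_surjective hj.1.2 h₁ ?_
    rintro _ ⟨t, rfl⟩
    exact ⟨k (a t), by rw [← Scheme.Hom.comp_apply, H.w]; rfl⟩
  refine ⟨IsOpenImmersion.lift v' a' hr, ⟨?_, ?_⟩, fun m hm => ?_⟩
  · rw [← cancel_mono v', Category.assoc, IsOpenImmersion.lift_fac, h₁, Category.assoc, Category.assoc, H.w]
  · rw [IsOpenImmersion.lift_fac_assoc, h₂]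
  · rw [← cancel_mono v', IsOpenImmersion.lift_fac]
    refine hun _ ⟨?_, ?_⟩
    · rw [← Category.assoc, hm.1, Category.assoc, H.w, Category.assoc]
    · rw [Category.assoc, hm.2]

/-- Universal thickenings are unique up to isomorphism. -/
theorem exists_iso_of_univ {Z'' : Scheme.{u}} {h : Z ⟶ X} {i : Z ⟶ Z'} {h' : Z' ⟶ X} {i₂ : Z ⟶ Z''} {h₂ : Z'' ⟶ X}
    (hu : OmegaSh.IsUnivThickening h i h') (hu₂ : OmegaSh.IsUnivThickening h i₂ h₂) :
    ∃ e : Z' ≅ Z'', i ≫ e.hom = i₂ ∧ e.hom ≫ h₂ = h' := by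
  obtain ⟨hi, hih, huniv⟩ := hu
  obtain ⟨hi₂, hih₂, huniv₂⟩ := hu₂
  obtain ⟨f, ⟨hf₁, hf₂⟩, -⟩ := huniv₂ Z Z' i h' (𝟙 Z) hi (by rw [hih, Category.id_comp])
  obtain ⟨g, ⟨hg₁, hg₂⟩, -⟩ := huniv Z Z'' i₂ h₂ (𝟙 Z) hi₂ (by rw [hih₂, Category.id_comp])
  rw [Category.id_comp] at hf₁ hg₁
  refine ⟨⟨f, g, ?_, ?_⟩, hf₁, hf₂⟩
  · refine (huniv Z Z' i h' (𝟙 Z) hi (by rw [hih, Category.id_comp])).unique ⟨?_, ?_⟩ ⟨?_, ?_⟩
    · rw [reassoc_of% hf₁, hg₁, Category.id_comp]
    · rw [Category.assoc, hg₂, hf₂]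
    · rw [Category.id_comp, Category.comp_id]
    · rw [Category.id_comp]
  · refine (huniv₂ Z Z'' i₂ h₂ (𝟙 Z) hi₂ (by rw [hih₂, Category.id_comp])).unique ⟨?_, ?_⟩ ⟨?_, ?_⟩
    · rw [reassoc_of% hg₁, hf₁, Category.id_comp]
    · rw [Category.assoc, hf₂, hg₂]
    · rw [Category.id_comp, Category.comp_id]
    · rw [Category.id_comp]

/-- A pair which is a universal thickening over the members of an affine open cover of the thickened
scheme is a universal thickening. -/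
theorem univ_of_openCover {κ : Type u} {W W' : κ → Scheme.{u}} (h : Z ⟶ X) (i : Z ⟶ Z') (h' : Z' ⟶ X)
    (k : ∀ c, W c ⟶ W' c) (v : ∀ c, W c ⟶ Z) (v' : ∀ c, W' c ⟶ Z') [∀ c, IsOpenImmersion (v c)]
    [∀ c, IsOpenImmersion (v' c)] [∀ c, IsAffine (W' c)] (H : ∀ c, IsPullback (k c) (v c) (v' c) i)
    (hcov : ∀ z', ∃ c x, v' c x = z') (hih : i ≫ h' = h)
    (hu : ∀ c, OmegaSh.IsUnivThickening (v c ≫ h) (k c) (v' c ≫ h')) :
    OmegaSh.IsUnivThickening h i h' := by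
  let 𝒰 : Z'.OpenCover :=
    { I₀ := κ
      X := W'
      f := v'
      mem₀ := by
        rw [Scheme.presieve₀_mem_precoverage_iff]
        exact ⟨hcov, inferInstance⟩ }
  have hk : ∀ c, MoreMor.IsFirstOrderThickening (k c) := fun c => (hu c).1
  haveI : IsClosedImmersion i := IsZariskiLocalAtTarget.of_openCover (P := @IsClosedImmersion) 𝒰 fun c => by
    haveI := (hk c).1.1
    exact (MorphismProperty.arrow_mk_iso_iff @IsClosedImmersion
      (Arrow.isoMk (H c).flip.isoPullback (Iso.refl _) (by simp [Scheme.Cover.pullbackHom, 𝒰]))).1 (hk c).1.1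
  refine ⟨⟨⟨inferInstance, ⟨fun z' => ?_⟩⟩, ?_⟩, hih, fun T T' j b a hj hjb => ?_⟩
  · obtain ⟨c, x, rfl⟩ := hcov z'
    obtain ⟨w, rfl⟩ := (hk c).1.2.surj x
    exact ⟨v c w, by rw [← Scheme.Hom.comp_apply, ← (H c).w]; rfl⟩
  · refine le_bot_iff.1 (Scheme.IdealSheafData.le_of_iSup_eq_top
      (fun c : κ => (⟨(v' c) ''ᵁ ⊤, (isAffineOpen_top (W' c)).image_of_isOpenImmersion (v' c)⟩ : Z'.affineOpens))
      ?_ fun c => ?_)
    · refine eq_top_iff.2 fun z' _ => ?_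
      obtain ⟨c, x, hx⟩ := hcov z'
      exact Opens.mem_iSup.2 ⟨c, ⟨x, trivial, hx⟩⟩
    · have h0 : (i.ker * i.ker).comap (v' c) = ⊥ := by
        rw [EffCartier.comap_mul, ← FormalH7.ker_of_isPullback (H c), (hk c).2]
      have h1 := congrArg (fun J => J.ideal (⟨⊤, isAffineOpen_top (W' c)⟩ : (W' c).affineOpens)) h0
      simp only [Scheme.IdealSheafData.ideal_comap_of_isOpenImmersion, Scheme.IdealSheafData.ideal_bot] at h1 ⊢
      refine le_of_eq (Ideal.comap_injective_of_surjective _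
        ((v' c).appIso ⊤).symm.commRingCatIsoToRingEquiv.surjective (h1.trans ?_))
      exact (Ideal.comap_bot_of_injective _ ((v' c).appIso ⊤).symm.commRingCatIsoToRingEquiv.injective).symm
  -- universality
  haveI := hj.1.1
  have hO : ∀ c, ∃ O : T'.Opens, j ⁻¹ᵁ O = a ⁻¹ᵁ (v c).opensRange := fun c => by
    obtain ⟨O, hO, hjO⟩ := j.isClosedEmbedding.isInducing.isOpen_iff.1 (a ⁻¹ᵁ (v c).opensRange).2
    exact ⟨⟨O, hO⟩, Opens.ext hjO⟩
  choose O hO using hO
  refine existsUnique_of_cover i h' j b a O (fun t' => ?_) fun c P p _ hp => ?_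
  · obtain ⟨t, rfl⟩ := hj.1.2.surj t'
    obtain ⟨c, x, hx⟩ := hcov (i (a t))
    refine ⟨c, show t ∈ j ⁻¹ᵁ O c from hO c ▸ ?_⟩
    obtain ⟨w, -, hw⟩ := Scheme.exists_preimage_of_isPullback (H c) x (a t) hx
    exact ⟨w, hw⟩
  have hr : Set.range (pullback.fst j p ≫ a) ⊆ Set.range (v c) := by
    rintro _ ⟨y, rfl⟩
    have : j ((pullback.fst j p) y) ∈ O c := by
      rw [← Scheme.Hom.comp_apply, pullback.condition]
      exact hp ⟨_, rfl⟩
    have h2 : (pullback.fst j p) y ∈ a ⁻¹ᵁ (v c).opensRange := hO c ▸ this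
    exact h2
  let a₀ := IsOpenImmersion.lift (v c) (pullback.fst j p ≫ a) hr
  have ha₀ : a₀ ≫ v c = pullback.fst j p ≫ a := IsOpenImmersion.lift_fac _ _ _
  have hs := isFirstOrderThickening_snd j hj p
  obtain ⟨l, ⟨hl₁, hl₂⟩, hlu⟩ := (hu c).2.2 _ _ (pullback.snd j p) (p ≫ b) a₀ hs (by
    rw [← pullback.condition_assoc, hjb, reassoc_of% ha₀])
  refine ⟨l ≫ v' c, ⟨?_, by rw [Category.assoc]; exact hl₂⟩, fun m hm => ?_⟩
  · rw [reassoc_of% hl₁, (H c).w, reassoc_of% ha₀, Category.assoc]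
  · have hrm : Set.range m ⊆ Set.range (v' c) := by
      refine range_subset_of_surjective hs.1.2 hm.1 ?_
      rintro _ ⟨y, rfl⟩
      exact ⟨k c (a₀ y), by rw [← ha₀, ← Scheme.Hom.comp_apply, (H c).w]; rfl⟩
    rw [← hlu (IsOpenImmersion.lift (v' c) m hrm) ⟨?_, ?_⟩, IsOpenImmersion.lift_fac]
    · rw [← cancel_mono (v' c), Category.assoc, IsOpenImmersion.lift_fac, hm.1, Category.assoc, Category.assoc, (H c).w,
        reassoc_of% ha₀]
    · rw [IsOpenImmersion.lift_fac_assoc, hm.2]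

end Groth.Agent.Thick12
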