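import Groth.Agent.Lib.Thick12.Ring
import Groth.Agent.Lib.Cyc26.KoszulH1
import Groth.Prelude.Def_CAlgX
import Groth.Prelude.Def_LCI2
import Mathlib.RingTheory.Localization.Away.Basic
import Mathlib.RingTheory.Flat.Basic

/-!
# Conormal injectivity for local complete intersections, algebraically

`ker_inf_span_le`, `ker_inf_sq_le`, `eq_zero_of_lci`.
-/

set_option autoImplicit false
set_option backward.isDefEq.respectTransparency false
set_option backward.isDefEq.respectTransparency.types false
set_option linter.style.haveILetI false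

universe u

open TensorProduct

namespace Groth.Agent.Thick12

/-- An H₁-regular sequence meets the kernel only trivially. -/
theorem ker_inf_span_le {R S : Type u} [CommRing R] [CommRing S] {q : R →+* S} (hq : Function.Surjective q)
    {c : ℕ} (f : Fin c → R) (hf : CAlgX.IsH1Regular fun i => q (f i)) :
    RingHom.ker q ⊓ Ideal.span (Set.range f) ≤ Ideal.span (Set.range f) * RingHom.ker q := by
  rintro y ⟨hy, hyf⟩
  obtain ⟨a, rfl⟩ := (Ideal.mem_span_range_iff_exists_fun).1 hyf
  have h0 : ∑ i, q (a i) * q (f i) = 0 := by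
    simp only [← map_mul, ← map_sum]
    exact hy
  have hlift : ∀ w ∈ Submodule.span S {v : Fin c → S | ∃ i j : Fin c,
      v = Pi.single i (q (f j)) - Pi.single j (q (f i))},
      ∃ v : Fin c → R, (∀ i, q (v i) = w i) ∧ ∑ i, v i * f i = 0 := by
    intro w hw
    induction hw using Submodule.span_induction with
    | mem w hw =>
      obtain ⟨i, j, rfl⟩ := hw
      refine ⟨Pi.single i (f j) - Pi.single j (f i), fun k => ?_, ?_⟩
      · simp [Pi.single_apply, apply_ite q]
      · simp only [Pi.sub_apply, sub_mul, Finset.sum_sub_distrib, Pi.single_apply, ite_mul, zero_mul,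
          Finset.sum_ite_eq', Finset.mem_univ, if_true]
        ring
    | zero => exact ⟨0, fun i => by simp, by simp⟩
    | add v w _ _ hv hw =>
      obtain ⟨v', hv, hv0⟩ := hv
      obtain ⟨w', hw, hw0⟩ := hw
      exact ⟨v' + w', fun i => by simp [hv, hw], by simp [add_mul, Finset.sum_add_distrib, hv0, hw0]⟩
    | smul r v _ hv =>
      obtain ⟨v', hv, hv0⟩ := hv
      obtain ⟨r', rfl⟩ := hq r
      exact ⟨r' • v', fun i => by simp [hv], by simp [mul_assoc, ← Finset.mul_sum, hv0]⟩
  obtain ⟨v, hv, hv0⟩ := hlift _ (hf _ h0)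
  rw [show ∑ i, a i * f i = ∑ i, f i * (a i - v i) by
    rw [← sub_zero (∑ i, a i * f i), ← hv0, ← Finset.sum_sub_distrib]
    exact Finset.sum_congr rfl fun i _ => by ring]
  exact sum_mem fun i _ => Ideal.mul_mem_mul (Ideal.subset_span ⟨i, rfl⟩)
    (RingHom.mem_ker.2 (by rw [map_sub, hv, sub_self]))

/-- The same, locally. -/
theorem ker_inf_sq_le {R S : Type u} [CommRing R] [CommRing S] {q : R →+* S} (hq : Function.Surjective q)
    (I : Ideal S) (hI : LCI.IsKoszulRegularIdeal I) :
    RingHom.ker q ⊓ I.comap q ^ 2 ≤ I.comap q * RingHom.ker q := by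
  rintro x ⟨hxK, hx2⟩
  set J := I.comap q * RingHom.ker q
  let L : Ideal R := J.colon {x}
  suffices hL : L = ⊤ by
    simpa using Submodule.mem_colon_singleton.1 ((Ideal.eq_top_iff_one L).1 hL)
  by_contra hL
  obtain ⟨M, hM, hLM⟩ := Ideal.exists_le_maximal L hL
  have hIL : I.comap q ≤ L := fun a ha => Submodule.mem_colon_singleton.2 (Ideal.mul_mem_mul ha hxK)
  have hKM : RingHom.ker q ≤ M := fun a ha => hLM (hIL (by
    rw [Ideal.mem_comap, RingHom.mem_ker.1 ha]; exact I.zero_mem))
  haveI : (M.map q).IsPrime := Ideal.map_isPrime_of_surjective hq hKM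
  have hMc : (M.map q).comap q = M := by
    rw [Ideal.comap_map_of_surjective q hq, ← RingHom.ker_eq_comap_bot, sup_eq_left.2 hKM]
  obtain ⟨g, hg, l, hl, hIg⟩ := hI ⟨M.map q, inferInstance⟩ (fun a ha => by
    obtain ⟨b, rfl⟩ := hq a
    exact Ideal.mem_map_of_mem q (hLM (hIL ha)))
  obtain ⟨G, rfl⟩ := hq g
  have hG : G ∉ M := fun h => hg (Ideal.mem_map_of_mem q h)
  let Rg := Localization.Away G
  let Sg := Localization.Away (q G)
  have hpow : (Submonoid.powers G).map q = Submonoid.powers (q G) := Submonoid.map_powers _ _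
  have hle : Submonoid.powers G ≤ (Submonoid.powers (q G)).comap q := by
    rw [← hpow]; exact Submonoid.le_comap_map _
  let qg : Rg →+* Sg := IsLocalization.map Sg q hle
  have hqg : ∀ r, qg (algebraMap R Rg r) = algebraMap S Sg (q r) := IsLocalization.map_eq hle
  have hqgs : Function.Surjective qg := fun s => by
    obtain ⟨a, ⟨_, n, rfl⟩, rfl⟩ := IsLocalization.exists_mk'_eq (Submonoid.powers (q G)) s
    obtain ⟨b, rfl⟩ := hq a
    refine ⟨IsLocalization.mk' Rg b (⟨G ^ n, ⟨n, rfl⟩⟩ : Submonoid.powers G), ?_⟩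
    rw [IsLocalization.map_mk']
    congr 1
    exact Subtype.ext (map_pow q G n)
  have hker : RingHom.ker qg = (RingHom.ker q).map (algebraMap R Rg) := IsLocalization.ker_map Sg q hpow
  choose f hf using fun i => hqgs (l.get i)
  have hreg : CAlgX.IsH1Regular fun i => qg (f i) := by
    rw [funext hf]
    exact Cyc26.isH1Regular_of_isKoszulRegularSeq l hl
  let I' := (I.comap q).map (algebraMap R Rg)
  have hI' : I' = Ideal.span (Set.range f) ⊔ RingHom.ker qg := by
    have h1 : (I'.map qg) = (Ideal.span (Set.range f)).map qg := by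
      rw [Ideal.map_span, ← Set.range_comp, show qg ∘ f = l.get from funext hf, Set.range_list_get, ← hIg]
      show ((I.comap q).map (algebraMap R Rg)).map qg = _
      rw [Ideal.map_map, show qg.comp (algebraMap R Rg) = (algebraMap S Sg).comp q from RingHom.ext hqg,
        ← Ideal.map_map, Ideal.map_comap_of_surjective q hq]
    have h2 : RingHom.ker qg ≤ I' := by
      rw [hker]
      exact Ideal.map_mono fun a ha => by rw [Ideal.mem_comap, RingHom.mem_ker.1 ha]; exact I.zero_mem
    have h3 := congrArg (Ideal.comap qg) h1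
    rw [Ideal.comap_map_of_surjective qg hqgs, Ideal.comap_map_of_surjective qg hqgs, ← RingHom.ker_eq_comap_bot,
      sup_eq_left.2 h2] at h3
    exact h3
  have hxg : algebraMap R Rg x ∈ J.map (algebraMap R Rg) := by
    rw [Ideal.map_mul, ← hker]
    show _ ∈ I' * RingHom.ker qg
    have hxI : algebraMap R Rg x ∈ I' ^ 2 := by
      rw [← Ideal.map_pow]; exact Ideal.mem_map_of_mem _ hx2
    have hxK' : algebraMap R Rg x ∈ RingHom.ker qg := by rw [hker]; exact Ideal.mem_map_of_mem _ hxK
    have hle2 : I' ^ 2 ≤ Ideal.span (Set.range f) ⊔ I' * RingHom.ker qg := by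
      rw [pow_two]
      conv_lhs => arg 2; rw [hI']
      rw [Ideal.mul_sup]
      exact sup_le_sup_right Ideal.mul_le_right _
    obtain ⟨y, hy, w, hw, hyw⟩ := Submodule.mem_sup.1 (hle2 hxI)
    rw [← hyw]
    refine Ideal.add_mem _ ?_ hw
    have hyK : y ∈ RingHom.ker qg := by
      rw [eq_sub_of_add_eq hyw]
      exact sub_mem hxK' (Ideal.mul_le_right hw)
    exact Ideal.mul_mono (hI'.ge.trans' le_sup_left) le_rfl (ker_inf_span_le hqgs f hreg ⟨hyK, hy⟩)
  obtain ⟨⟨⟨b, hb⟩, ⟨_, n, rfl⟩⟩, he⟩ := (IsLocalization.mem_map_algebraMap_iff (Submonoid.powers G) Rg).1 hxg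
  rw [← map_mul] at he
  obtain ⟨⟨_, k, rfl⟩, hk⟩ := (IsLocalization.eq_iff_exists (Submonoid.powers G) Rg).1 he
  have hmem : G ^ (k + n) ∈ L := Submodule.mem_colon_singleton.2 (by
    rw [smul_eq_mul, show G ^ (k + n) * x = G ^ k * (x * G ^ n) by ring, hk]
    exact J.mul_mem_left _ hb)
  exact hG (hM.isPrime.mem_of_pow_mem _ (hLM hmem))

section main

variable {A B C B' C' : Type u} [CommRing A] [CommRing B] [CommRing C] [CommRing B'] [CommRing C']
  [Algebra A B] [Algebra A C] [Algebra A B'] [Algebra A C'] [Algebra B C] [Algebra B' B] [Algebra B' C']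
  [Algebra C' C] [Algebra B' C] [IsScalarTower A B C] [IsScalarTower A B' B] [IsScalarTower A B' C']
  [IsScalarTower A C' C] [IsScalarTower B' B C] [IsScalarTower B' C' C] [IsScalarTower A B' C]
  {M N : Type u} [AddCommGroup M] [Module B' M] [AddCommGroup N] [Module C' N]

set_option maxHeartbeats 1000000 in
/-- For a local complete intersection the conormal module of the base thickening injects. -/
theorem eq_zero_of_lci (hB : OmegaSh.IsUnivThickeningRing A B B' (IsScalarTower.toAlgHom A B' B))
    (hC : OmegaSh.IsUnivThickeningRing A C C' (IsScalarTower.toAlgHom A C' C)) (hlci : LCI.IsLCI B C)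
    (ιM : M →ₗ[B'] B') (hιM : Function.Injective ιM) (hrM : LinearMap.range ιM = RingHom.ker (algebraMap B' B))
    (ιN : N →ₗ[C'] C') (hrN : LinearMap.range ιN = RingHom.ker (algebraMap C' C))
    (n : M → N) (hn : ∀ a, ιN (n a) = algebraMap B' C' (ιM a))
    (d₀ : C ⊗[B'] M →+ C ⊗[C'] N) (hd₀ : ∀ c a, d₀ (c ⊗ₜ a) = c ⊗ₜ n a)
    (z : C ⊗[B'] M) (hz : d₀ z = 0) : z = 0 := by
  obtain ⟨-, k, φ, hφ, hreg⟩ := hlci
  let P := MvPolynomial (Fin k) B'
  let q : P →+* MvPolynomial (Fin k) B := MvPolynomial.map (algebraMap B' B)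
  have hq : Function.Surjective q := MvPolynomial.map_surjective _ hB.1
  let τ : P →ₐ[B'] C := MvPolynomial.aeval fun i => φ (MvPolynomial.X i)
  have hτq : ∀ p, τ p = φ (q p) := fun p => by
    induction p using MvPolynomial.induction_on with
    | C a =>
      show MvPolynomial.aeval _ (MvPolynomial.C a) = φ (MvPolynomial.map _ (MvPolynomial.C a))
      rw [MvPolynomial.aeval_C, MvPolynomial.map_C, ← MvPolynomial.algebraMap_eq, φ.commutes,
        ← IsScalarTower.algebraMap_apply]
    | add a b ha hb => simp only [map_add, ha, hb]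
    | mul_X p i hp =>
      rw [map_mul τ, map_mul q, map_mul φ, hp]
      congr 1
      exact (MvPolynomial.aeval_X _ i).trans (congrArg φ (MvPolynomial.map_X _ i).symm)
  have hτ : Function.Surjective τ := fun c => by
    obtain ⟨p, rfl⟩ := hφ c
    obtain ⟨p', rfl⟩ := hq p
    exact ⟨p', hτq p'⟩
  let I' : Ideal P := RingHom.ker τ.toRingHom
  have hI' : I' = (RingHom.ker φ.toRingHom).comap q := by
    ext p
    rw [RingHom.mem_ker, Ideal.mem_comap, RingHom.mem_ker]
    exact ⟨fun h => (hτq p).symm.trans h, fun h => (hτq p).trans h⟩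
  have hkey : RingHom.ker q ⊓ I' ^ 2 ≤ I' * RingHom.ker q := by
    rw [hI']; exact ker_inf_sq_le hq _ hreg
  -- the test thickening
  let D := P ⧸ I' ^ 2
  let π : D →ₐ[A] C := Ideal.Quotient.liftₐ (I' ^ 2) (τ.restrictScalars A)
    fun a ha => (RingHom.mem_ker.1 (Ideal.pow_le_self two_ne_zero ha) : _)
  have hπ : Function.Surjective π := fun c => by
    obtain ⟨p, rfl⟩ := hτ c
    exact ⟨Ideal.Quotient.mk _ p, rfl⟩
  have hmul : ∀ p q : D, π p = 0 → π q = 0 → p * q = 0 := fun p q hp hq => by
    obtain ⟨a, rfl⟩ := Ideal.Quotient.mk_surjective p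
    obtain ⟨b, rfl⟩ := Ideal.Quotient.mk_surjective q
    rw [← map_mul, Ideal.Quotient.eq_zero_iff_mem, pow_two]
    exact Ideal.mul_mem_mul (RingHom.mem_ker.2 hp) (RingHom.mem_ker.2 hq)
  have hKD : RingHom.ker π.toRingHom ^ 2 = ⊥ := by
    refine (pow_two _).trans ?_
    exact le_bot_iff.1 (Ideal.mul_le.2 fun p hp q hq => hmul p q hp hq)
  let e : (D ⧸ RingHom.ker π.toRingHom) ≃ₐ[A] C := Ideal.quotientKerAlgEquivOfSurjective hπ
  obtain ⟨l, hl, -⟩ := hC.2.2 D _ hKD e.symm.toAlgHom
  have hlπ : ∀ x, π (l x) = algebraMap C' C x := fun x =>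
    (congrArg e (AlgHom.congr_fun hl x)).trans (e.apply_symm_apply _)
  -- compatibility with the base thickening
  have hcompat : ∀ b : B', l (algebraMap B' C' b) = algebraMap B' D b := by
    have h1 : l.comp (IsScalarTower.toAlgHom A B' C') = IsScalarTower.toAlgHom A B' D := by
      refine hom_ext_univ hB hKD (e.symm.toAlgHom.comp (IsScalarTower.toAlgHom A B C))
        (AlgHom.ext fun b => e.injective ?_) (AlgHom.ext fun b => e.injective ?_)
      · show π (l (algebraMap B' C' b)) = e (e.symm (algebraMap B C (algebraMap B' B b)))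
        rw [hlπ, e.apply_symm_apply, ← IsScalarTower.algebraMap_apply, ← IsScalarTower.algebraMap_apply]
      · show π (algebraMap B' D b) = e (e.symm (algebraMap B C (algebraMap B' B b)))
        rw [e.apply_symm_apply, ← IsScalarTower.algebraMap_apply]
        exact τ.commutes b
    exact fun b => AlgHom.congr_fun h1 b
  -- evaluation in the test thickening
  let σ : C → D := Function.surjInv hπ
  have hσ : ∀ c, π (σ c) = c := Function.surjInv_eq hπ
  have hNker : ∀ m : N, π (l (ιN m)) = 0 := fun m => (hlπ _).trans (hrN.le ⟨m, rfl⟩ : _)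
  have hwd : ∀ (p p' : D) (m : N), π p = π p' → p * l (ιN m) = p' * l (ιN m) := fun p p' m h => by
    rw [← sub_eq_zero, ← sub_mul]
    exact hmul _ _ (by rw [map_sub, h, sub_self]) (hNker m)
  let Ψ : C ⊗[C'] N →+ D := TensorProduct.liftAddHom
    { toFun := fun c => AddMonoidHom.mk' (fun m => σ c * l (ιN m)) fun x y => by rw [map_add, map_add, mul_add]
      map_zero' := AddMonoidHom.ext fun m => by
        show σ 0 * l (ιN m) = 0
        rw [hwd (σ 0) 0 m (by rw [hσ, map_zero]), zero_mul]
      map_add' := fun c c' => AddMonoidHom.ext fun m => by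
        show σ (c + c') * l (ιN m) = σ c * l (ιN m) + σ c' * l (ιN m)
        rw [← add_mul]
        exact hwd _ _ _ (by rw [map_add, hσ, hσ, hσ]) }
    fun r c m => by
      show σ (r • c) * l (ιN m) = σ c * l (ιN (r • m))
      rw [map_smul, smul_eq_mul, map_mul, ← mul_assoc]
      exact hwd _ _ _ (by rw [map_mul, hσ, hσ, hlπ, Algebra.smul_def, mul_comm])
  let incl : P ⊗[B'] M →ₗ[P] P :=
    (TensorProduct.AlgebraTensorModule.rid B' P P).toLinearMap ∘ₗ ιM.baseChange P
  have hincl_tmul : ∀ (p : P) a, incl (p ⊗ₜ a) = ιM a • p := fun p a => by simp [incl]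
  have hincl : Function.Injective incl :=
    (TensorProduct.AlgebraTensorModule.rid B' P P).injective.comp
      (by rw [LinearMap.baseChange_eq_ltensor]; exact Module.Flat.lTensor_preserves_injective_linearMap ιM hιM)
  let t : P ⊗[B'] M →ₗ[B'] C ⊗[B'] M := τ.toLinearMap.rTensor M
  obtain ⟨ζ, rfl⟩ := LinearMap.rTensor_surjective M (g := τ.toLinearMap) hτ z
  have hΨ : ∀ w, Ψ (d₀ (t w)) = Ideal.Quotient.mk (I' ^ 2) (incl w) := fun w => by
    induction w using TensorProduct.induction_on with
    | zero => simp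
    | add x y hx hy => simp only [map_add, hx, hy]
    | tmul p a =>
      rw [LinearMap.rTensor_tmul, hd₀]
      show σ (τ p) * l (ιN (n a)) = _
      rw [hn, hincl_tmul, Algebra.smul_def, map_mul, mul_comm (Ideal.Quotient.mk _ (algebraMap B' P _)), hcompat]
      refine (?_ : σ (τ p) * algebraMap B' D (ιM a) = Ideal.Quotient.mk _ p * algebraMap B' D (ιM a))
      rw [← hcompat, ← hn]
      exact hwd _ _ _ (hσ _)
  have hmem : incl ζ ∈ I' ^ 2 := Ideal.Quotient.eq_zero_iff_mem.1 (by rw [← hΨ, hz, map_zero])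
  have hrange : LinearMap.range incl = RingHom.ker q := by
    refine le_antisymm ?_ ?_
    · rintro _ ⟨w, rfl⟩
      induction w using TensorProduct.induction_on with
      | zero => simp
      | add x y hx hy => rw [map_add]; exact add_mem hx hy
      | tmul p a =>
        rw [hincl_tmul, Algebra.smul_def, RingHom.mem_ker, map_mul]
        have : algebraMap B' B (ιM a) = 0 := hrM.le ⟨a, rfl⟩
        show MvPolynomial.map _ (MvPolynomial.C (ιM a)) * _ = 0
        rw [MvPolynomial.map_C, this, map_zero, zero_mul]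
    · rw [MvPolynomial.ker_map, Ideal.map_le_iff_le_comap]
      intro b hb
      obtain ⟨a, rfl⟩ := hrM.ge hb
      exact ⟨(1 : P) ⊗ₜ a, by rw [hincl_tmul, Algebra.smul_def, mul_one]; rfl⟩
  have h1 : incl ζ ∈ Submodule.map incl (I' • (⊤ : Submodule P (P ⊗[B'] M))) := by
    rw [Submodule.map_smul'', Submodule.map_top, hrange]
    exact hkey ⟨hrange.le ⟨ζ, rfl⟩, hmem⟩
  obtain ⟨w, hw, he⟩ := h1
  obtain rfl := hincl he
  refine Submodule.smul_induction_on hw (fun p hp w _ => ?_) fun x y hx hy => by rw [map_add, hx, hy, add_zero]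
  induction w using TensorProduct.induction_on with
  | zero => simp
  | add x y hx hy => rw [smul_add, map_add, hx Submodule.mem_top, hy Submodule.mem_top, add_zero]
  | tmul p' a =>
    rw [TensorProduct.smul_tmul', LinearMap.rTensor_tmul]
    show τ (p * p') ⊗ₜ[B'] a = 0
    rw [map_mul, show τ p = 0 from hp, zero_mul, TensorProduct.zero_tmul]

end main

end Groth.Agent.Thick12
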