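import Groth.Agent.Lib.Thick12.Exists
import Groth.Agent.Lib.Omega12.BaseChange
import Groth.Agent.Lib.Omega12.Compat
import Groth.Agent.Lib.PullSect12.Basic

/-!
# Properties of universal thickenings

`ringUniv_sections`, `formallyUnramified_of_univ`, `isIso_pullback_diffCompat`.
-/

set_option autoImplicit false
set_option backward.isDefEq.respectTransparency false
set_option backward.isDefEq.respectTransparency.types false
set_option linter.style.haveILetI false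

universe u

open CategoryTheory CategoryTheory.Limits AlgebraicGeometry TopologicalSpace TensorProduct

namespace Groth.Agent.Thick12

variable {Z Z' X : Scheme.{u}} {h : Z ⟶ X} {i : Z ⟶ Z'} {h' : Z' ⟶ X}

/-- On affine charts a universal thickening is a universal thickening of rings. -/
theorem ringUniv_sections (hu : OmegaSh.IsUnivThickening h i h') {V' : Z'.Opens} (hV' : IsAffineOpen V')
    {U : X.Opens} (hU : IsAffineOpen U) (hle : V' ≤ h' ⁻¹ᵁ U)
    [Algebra Γ(X, U) Γ(Z', V')] [Algebra Γ(Z', V') Γ(Z, i ⁻¹ᵁ V')] [Algebra Γ(X, U) Γ(Z, i ⁻¹ᵁ V')]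
    [IsScalarTower Γ(X, U) Γ(Z', V') Γ(Z, i ⁻¹ᵁ V')]
    (h₁ : algebraMap Γ(X, U) Γ(Z', V') = (h'.appLE U V' hle).hom)
    (h₂ : algebraMap Γ(Z', V') Γ(Z, i ⁻¹ᵁ V') = (i.app V').hom) :
    OmegaSh.IsUnivThickeningRing Γ(X, U) Γ(Z, i ⁻¹ᵁ V') Γ(Z', V')
      (IsScalarTower.toAlgHom Γ(X, U) Γ(Z', V') Γ(Z, i ⁻¹ᵁ V')) := by
  haveI := hu.1.1.1
  have hih := hu.2.1
  subst hih
  have hVU : i ⁻¹ᵁ V' ≤ (i ≫ h') ⁻¹ᵁ U := fun x hx => hle hx
  have hV : IsAffineOpen (i ⁻¹ᵁ V') := hV'.preimage i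
  have e₁ : algebraMap Γ(X, U) Γ(Z, i ⁻¹ᵁ V') = ((i ≫ h').appLE U (i ⁻¹ᵁ V') hVU).hom := by
    rw [IsScalarTower.algebraMap_eq Γ(X, U) Γ(Z', V') Γ(Z, i ⁻¹ᵁ V'), h₁, h₂, ← Scheme.Hom.appLE_eq_app,
      ← CommRingCat.hom_comp, Scheme.Hom.appLE_comp_appLE]
  refine ringUniv_of_univ _ (univ_of_iso
    (isUnivThickening_restrict (i ≫ h') i h' hu (i ⁻¹ᵁ V') U hVU V' rfl hle)
    hV.isoSpec.symm hV'.isoSpec.symm hU.isoSpec.symm ?_ ?_ ?_)
  · show Spec.map (CommRingCat.ofHom (algebraMap Γ(X, U) Γ(Z, i ⁻¹ᵁ V'))) ≫ hU.isoSpec.inv =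
      hV.isoSpec.inv ≫ _
    rw [e₁, ← cancel_mono U.ι, Category.assoc, Category.assoc, IsAffineOpen.isoSpec_inv_ι,
      Scheme.Hom.resLE_comp_ι, IsAffineOpen.isoSpec_inv_ι_assoc]
    exact IsAffineOpen.SpecMap_appLE_fromSpec (i ≫ h') hU hV hVU
  · show Spec.map (CommRingCat.ofHom (IsScalarTower.toAlgHom Γ(X, U) Γ(Z', V') Γ(Z, i ⁻¹ᵁ V')).toRingHom) ≫
      hV'.isoSpec.inv = hV.isoSpec.inv ≫ _
    rw [show (IsScalarTower.toAlgHom Γ(X, U) Γ(Z', V') Γ(Z, i ⁻¹ᵁ V')).toRingHom = (i.app V').hom from h₂,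
      ← cancel_mono V'.ι, Category.assoc, Category.assoc, IsAffineOpen.isoSpec_inv_ι,
      Scheme.Hom.resLE_comp_ι, IsAffineOpen.isoSpec_inv_ι_assoc, ← Scheme.Hom.appLE_eq_app]
    exact IsAffineOpen.SpecMap_appLE_fromSpec i hV' hV le_rfl
  · show Spec.map (CommRingCat.ofHom (algebraMap Γ(X, U) Γ(Z', V'))) ≫ hU.isoSpec.inv =
      hV'.isoSpec.inv ≫ _
    rw [h₁, ← cancel_mono U.ι, Category.assoc, Category.assoc, IsAffineOpen.isoSpec_inv_ι,
      Scheme.Hom.resLE_comp_ι, IsAffineOpen.isoSpec_inv_ι_assoc]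
    exact IsAffineOpen.SpecMap_appLE_fromSpec h' hU hV' hle

/-- The universal thickening is formally unramified over the base. -/
theorem formallyUnramified_of_univ (hu : OmegaSh.IsUnivThickening h i h') : FormallyUnramified h' := by
  rw [HasRingHomProperty.iff_appLE (P := @FormallyUnramified)]
  intro U V' hle
  letI : Algebra Γ(X, U.1) Γ(Z', V'.1) := (h'.appLE U.1 V'.1 hle).hom.toAlgebra
  letI : Algebra Γ(Z', V'.1) Γ(Z, i ⁻¹ᵁ V'.1) := (i.app V'.1).hom.toAlgebra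
  letI : Algebra Γ(X, U.1) Γ(Z, i ⁻¹ᵁ V'.1) :=
    ((algebraMap Γ(Z', V'.1) Γ(Z, i ⁻¹ᵁ V'.1)).comp (algebraMap Γ(X, U.1) Γ(Z', V'.1))).toAlgebra
  haveI : IsScalarTower Γ(X, U.1) Γ(Z', V'.1) Γ(Z, i ⁻¹ᵁ V'.1) := IsScalarTower.of_algebraMap_eq' rfl
  exact ⟨subsingleton_kaehler_of_univ (ringUniv_sections hu V'.2 U.2 hle rfl rfl)⟩

section conormal

variable {S : Scheme.{u}} {q : X ⟶ S} {ΩX : X.Modules} {dX : OmegaSh.Der q ΩX} {ΩZ' : Z'.Modules}
  {dZ' : OmegaSh.Der (h' ≫ q) ΩZ'}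

set_option maxHeartbeats 2000000 in
/-- The compatible map of differentials becomes an isomorphism on the closed part. -/
theorem isIso_pullback_diffCompat (hu : OmegaSh.IsUnivThickening h i h') (hdX : OmegaSh.IsUniversal dX)
    (hdZ' : OmegaSh.IsUniversal dZ') {c : (Scheme.Modules.pullback h').obj ΩX ⟶ ΩZ'}
    (hc : OmegaSh.IsDiffCompat h' dX dZ' c) : IsIso ((Scheme.Modules.pullback i).map c) := by
  haveI := hu.1.1.1
  let M := (Scheme.Modules.pullback h').obj ΩX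
  let N := (Scheme.Modules.pullback i).obj ΩZ'
  have hΩX := Omega12.isQCoh_receptacle q hdX
  have hΩZ := Omega12.isQCoh_receptacle (h' ≫ q) hdZ'
  haveI := hΩX
  haveI := hΩZ
  let θ : M ⟶ (Scheme.Modules.pushforward i).obj N :=
    c ≫ (Scheme.Modules.pullbackPushforwardAdjunction i).unit.app ΩZ'
  have hθ : ((Scheme.Modules.pullbackPushforwardAdjunction i).homEquiv M N).symm θ =
      (Scheme.Modules.pullback i).map c := by
    show ((Scheme.Modules.pullbackPushforwardAdjunction i).homEquiv M N).symm (c ≫ _) = _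
    rw [Adjunction.homEquiv_counit, Functor.map_comp, Category.assoc,
      (Scheme.Modules.pullbackPushforwardAdjunction i).left_triangle_components ΩZ']
    exact Category.comp_id _
  rw [← hθ]
  refine PullBC11.isIso_of_isBC θ (M1.isQCoh_pullback h' hΩX) (M1.isQCoh_pullback i hΩZ) fun z => ?_
  obtain ⟨W, U, hW, hU, hzU, -, hUW⟩ := Omega26.exists_chart q (h' (i z)) ⊤ trivial
  obtain ⟨V', hV', hzV', hle⟩ := exists_isAffineOpen_mem_and_subset (X := Z') (x := i z) (U := h' ⁻¹ᵁ U) hzU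
  refine ⟨V', hV', i ⁻¹ᵁ V', hV'.preimage i, le_rfl, hzV', ?_⟩
  have hV'W : V' ≤ (h' ≫ q) ⁻¹ᵁ W := fun x hx => hUW (hle hx)
  letI aRA : Algebra Γ(S, W) Γ(X, U) := (q.appLE W U hUW).hom.toAlgebra
  letI aAB' : Algebra Γ(X, U) Γ(Z', V') := (h'.appLE U V' hle).hom.toAlgebra
  letI aRB' : Algebra Γ(S, W) Γ(Z', V') := ((h' ≫ q).appLE W V' hV'W).hom.toAlgebra
  haveI : IsScalarTower Γ(S, W) Γ(X, U) Γ(Z', V') := IsScalarTower.of_algebraMap_eq' (by
    show _ = CommRingCat.Hom.hom (q.appLE W U hUW ≫ h'.appLE U V' hle)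
    rw [Scheme.Hom.appLE_comp_appLE]; rfl)
  letI aBB : Algebra Γ(Z', V') Γ(Z, i ⁻¹ᵁ V') := (i.appLE V' (i ⁻¹ᵁ V') le_rfl).hom.toAlgebra
  letI aAB : Algebra Γ(X, U) Γ(Z, i ⁻¹ᵁ V') :=
    ((algebraMap Γ(Z', V') Γ(Z, i ⁻¹ᵁ V')).comp (algebraMap Γ(X, U) Γ(Z', V'))).toAlgebra
  haveI : IsScalarTower Γ(X, U) Γ(Z', V') Γ(Z, i ⁻¹ᵁ V') := IsScalarTower.of_algebraMap_eq' rfl
  have hring := ringUniv_sections hu hV' hU hle rfl (congrArg CommRingCat.Hom.hom i.appLE_eq_app)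
  have hbij := bijective_baseChange_of_univ (R := Γ(S, W)) hring
  -- sections of the pullback
  letI := PullBC11.baseModule (g := h') M hle
  haveI : IsScalarTower Γ(X, U) Γ(Z', V') Γ(M, V') := IsScalarTower.of_algebraMap_smul fun _ _ => rfl
  have hM : IsBaseChange Γ(Z', V')
      (PullBC11.sect ((Scheme.Modules.pullbackPushforwardAdjunction h').unit.app ΩX) hle) :=
    PullSect12.isBC_unit h' ΩX hU hV' hle
  letI := PullBC11.baseModule (g := i) N (le_refl (i ⁻¹ᵁ V'))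
  haveI : IsScalarTower Γ(Z', V') Γ(Z, i ⁻¹ᵁ V') Γ(N, i ⁻¹ᵁ V') := IsScalarTower.of_algebraMap_smul fun _ _ => rfl
  have hN : IsBaseChange Γ(Z, i ⁻¹ᵁ V')
      (PullBC11.sect ((Scheme.Modules.pullbackPushforwardAdjunction i).unit.app ΩZ') (le_refl (i ⁻¹ᵁ V'))) :=
    PullSect12.isBC_unit i ΩZ' hV' (hV'.preimage i) le_rfl
  let eX := Omega12.sectLinEquiv q hdX hU hW hUW
  let eZ := Omega12.sectLinEquiv (h' ≫ q) hdZ' hV' hW hV'W
  let eM : Γ(Z', V') ⊗[Γ(X, U)] KaehlerDifferential Γ(S, W) Γ(X, U) ≃ₗ[Γ(Z', V')] Γ(M, V') :=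
    (LinearEquiv.baseChange Γ(X, U) Γ(Z', V') _ _ eX).trans hM.equiv
  let cV : Γ(M, V') →ₗ[Γ(Z', V')] Γ(ΩZ', V') :=
    { toFun := fun m => c.app V' m
      map_add' := fun m m' => map_add _ _ _
      map_smul' := fun r m => Scheme.Modules.Hom.app_smul c r m }
  have hcomp : cV ∘ₗ eM.toLinearMap =
      eZ.toLinearMap ∘ₗ KaehlerDifferential.mapBaseChange Γ(S, W) Γ(X, U) Γ(Z', V') := by
    refine LinearMap.ext fun x => ?_
    induction x using TensorProduct.induction_on with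
    | zero => simp
    | add x y hx hy => simp only [map_add, hx, hy]
    | tmul b w =>
      have hw : w ∈ Submodule.span Γ(X, U) (Set.range (KaehlerDifferential.D Γ(S, W) Γ(X, U))) := by
        rw [KaehlerDifferential.span_range_derivation]; trivial
      suffices h1 : cV (eM (1 ⊗ₜ w)) = eZ (KaehlerDifferential.map Γ(S, W) Γ(S, W) Γ(X, U) Γ(Z', V') w) by
        have hb : b ⊗ₜ[Γ(X, U)] w = b • ((1 : Γ(Z', V')) ⊗ₜ w) := by
          rw [TensorProduct.smul_tmul', smul_eq_mul, mul_one]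
        show cV (eM (b ⊗ₜ w)) = eZ (KaehlerDifferential.mapBaseChange Γ(S, W) Γ(X, U) Γ(Z', V') (b ⊗ₜ w))
        rw [hb, map_smul, map_smul, h1, map_smul, KaehlerDifferential.mapBaseChange_tmul, one_smul, map_smul]
      induction hw using Submodule.span_induction with
      | mem y hy =>
        obtain ⟨a, rfl⟩ := hy
        rw [KaehlerDifferential.map_D, Omega12.sectLinEquiv_D]
        show cV (hM.equiv (1 ⊗ₜ eX (KaehlerDifferential.D Γ(S, W) Γ(X, U) a))) = _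
        rw [hM.equiv_tmul, one_smul, Omega12.sectLinEquiv_D]
        show c.app V' (M1.mres M hle _) = _
        rw [M1.app_mres c hle]
        refine Eq.trans (congrArg _ (hc U a)) ?_
        exact (dZ'.d_map (homOfLE hle).op (h'.app U a)).symm
      | zero => simp
      | add y z _ _ hy hz => simp only [TensorProduct.tmul_add, map_add, hy, hz]
      | smul r y _ hy =>
        rw [← TensorProduct.smul_tmul, Algebra.smul_def, mul_one,
          show algebraMap Γ(X, U) Γ(Z', V') r ⊗ₜ[Γ(X, U)] y = algebraMap Γ(X, U) Γ(Z', V') r •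
            ((1 : Γ(Z', V')) ⊗ₜ[Γ(X, U)] y) by rw [TensorProduct.smul_tmul', smul_eq_mul, mul_one],
          map_smul, map_smul, hy, map_smul, ← algebraMap_smul Γ(Z', V') r, map_smul]
  have hcV : Function.Bijective (cV.baseChange Γ(Z, i ⁻¹ᵁ V')) := by
    have h2 := congrArg (LinearMap.baseChange Γ(Z, i ⁻¹ᵁ V')) hcomp
    rw [LinearMap.baseChange_comp, LinearMap.baseChange_comp] at h2
    have h3 : Function.Bijective (cV.baseChange Γ(Z, i ⁻¹ᵁ V') ∘
        (LinearEquiv.baseChange Γ(Z', V') Γ(Z, i ⁻¹ᵁ V') _ _ eM)) := by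
      refine (congrArg Function.Bijective (congrArg DFunLike.coe h2)).mpr ?_
      exact (LinearEquiv.baseChange Γ(Z', V') Γ(Z, i ⁻¹ᵁ V') _ _ eZ).bijective.comp hbij
    exact (Function.Bijective.of_comp_iff _ (LinearEquiv.bijective _)).1 h3
  show IsBaseChange Γ(Z, i ⁻¹ᵁ V') (PullBC11.sect θ (le_refl (i ⁻¹ᵁ V')))
  refine IsBaseChange.of_equiv ((LinearEquiv.ofBijective _ hcV).trans hN.equiv) fun m => ?_
  show hN.equiv (cV.baseChange _ (1 ⊗ₜ m)) = _
  rw [LinearMap.baseChange_tmul, hN.equiv_tmul, one_smul]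
  rfl

end conormal

end Groth.Agent.Thick12
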