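import Groth.Agent.Lib.Thick12.LciAlg
import Groth.Agent.Lib.CI2.NLPerf
import Groth.Agent.Lib.Thick12.Props
import Groth.Agent.Lib.CI2.KoszulFlat
import Groth.Agent.Lib.DPerf.Tilde
import Groth.Agent.Lib.DPerf.Top
import Groth.Agent.Lib.ModM1.LocFree
import Groth.Agent.Lib.GrMap12.GrBC

/-!
# The conormal sheaf of a formally unramified local complete intersection is finite locally free

`finite_projective_of_extension`, `finite_projective_of_lci`, `isFinLocFree_conormal_of_lci`.
-/

set_option autoImplicit false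
set_option backward.isDefEq.respectTransparency false
set_option backward.isDefEq.respectTransparency.types false
set_option linter.style.haveILetI false

universe u

open TensorProduct CategoryTheory AlgebraicGeometry TopologicalSpace

namespace Groth.Agent.Thick12

section alg

variable {A B B' : Type u} [CommRing A] [CommRing B] [CommRing B'] [Algebra A B] [Algebra A B'] [Algebra B' B]
  [IsScalarTower A B' B] {M : Type u} [AddCommGroup M] [Module B' M]

set_option maxHeartbeats 1000000 in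
/-- The conormal module of a universal thickening is a retract of that of any extension. -/
theorem finite_projective_of_extension
    (hB : OmegaSh.IsUnivThickeningRing A B B' (IsScalarTower.toAlgHom A B' B)) (E : Algebra.Extension.{u} A B)
    (τ : E.Ring →ₐ[A] B') (hτ : ∀ p, algebraMap B' B (τ p) = algebraMap E.Ring B p)
    [Module.Finite B E.Cotangent] [Module.Projective B E.Cotangent]
    (ιM : M →ₗ[B'] B') (hιM : Function.Injective ιM) (hrM : LinearMap.range ιM = RingHom.ker (algebraMap B' B)) :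
    Module.Finite B (B ⊗[B'] M) ∧ Module.Projective B (B ⊗[B'] M) := by
  let J := E.ker
  let D := E.Ring ⧸ J ^ 2
  let π : D →ₐ[A] B := Ideal.Quotient.liftₐ (J ^ 2) (IsScalarTower.toAlgHom A E.Ring B)
    fun a ha => (RingHom.mem_ker.1 (Ideal.pow_le_self two_ne_zero ha) : _)
  have hπmk : ∀ p, π (Ideal.Quotient.mk _ p) = algebraMap E.Ring B p := fun _ => rfl
  have hπ : Function.Surjective π := fun b => by
    obtain ⟨p, rfl⟩ := E.algebraMap_surjective b
    exact ⟨Ideal.Quotient.mk _ p, rfl⟩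
  have hmul : ∀ p q : D, π p = 0 → π q = 0 → p * q = 0 := fun p q hp hq => by
    obtain ⟨a, rfl⟩ := Ideal.Quotient.mk_surjective p
    obtain ⟨b, rfl⟩ := Ideal.Quotient.mk_surjective q
    rw [← map_mul, Ideal.Quotient.eq_zero_iff_mem, pow_two]
    exact Ideal.mul_mem_mul (RingHom.mem_ker.2 hp) (RingHom.mem_ker.2 hq)
  have hKD : RingHom.ker π.toRingHom ^ 2 = ⊥ := by
    refine (pow_two _).trans ?_
    exact le_bot_iff.1 (Ideal.mul_le.2 fun p hp q hq => hmul p q hp hq)
  let e : (D ⧸ RingHom.ker π.toRingHom) ≃ₐ[A] B := Ideal.quotientKerAlgEquivOfSurjective hπ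
  obtain ⟨s, hs, -⟩ := hB.2.2 D _ hKD e.symm.toAlgHom
  have hsπ : ∀ x, π (s x) = algebraMap B' B x := fun x =>
    (congrArg e (AlgHom.congr_fun hs x)).trans (e.apply_symm_apply _)
  have hτJ : ∀ p ∈ J, ∀ q ∈ J, τ p * τ q = 0 := fun p hp q hq =>
    mul_eq_zero_of_univ hB ((hτ p).trans hp) ((hτ q).trans hq)
  have hτ2 : ∀ a ∈ J ^ 2, τ a = 0 := fun a ha => by
    rw [pow_two] at ha
    refine Submodule.mul_induction_on ha (fun a ha b hb => ?_) fun a b ha hb => by rw [map_add, ha, hb, add_zero]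
    rw [map_mul]
    exact hτJ a ha b hb
  let τ' : D →ₐ[A] B' := Ideal.Quotient.liftₐ (J ^ 2) τ hτ2
  -- the composite is the identity
  have hid : ∀ x, τ' (s x) = x := by
    let f : B' →ₐ[A] B := IsScalarTower.toAlgHom A B' B
    let eB : (B' ⧸ RingHom.ker f.toRingHom) ≃ₐ[A] B := Ideal.quotientKerAlgEquivOfSurjective hB.1
    have h := hom_ext_univ hB hB.2.1 (a₁ := τ'.comp s) (a₂ := AlgHom.id A B') eB.symm.toAlgHom
      (AlgHom.ext fun x => eB.injective ?_) (AlgHom.ext fun x => eB.injective ?_)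
    · exact fun x => AlgHom.congr_fun h x
    · show algebraMap B' B (τ' (s x)) = eB (eB.symm (algebraMap B' B x))
      rw [eB.apply_symm_apply]
      obtain ⟨p, hp⟩ := Ideal.Quotient.mk_surjective (s x)
      rw [← hsπ x, ← hp, hπmk]
      exact hτ p
    · show algebraMap B' B x = eB (eB.symm (algebraMap B' B x))
      rw [eB.apply_symm_apply]
  -- the two maps
  have hm₀ : ∀ p : J, ∃ m : M, ιM m = τ p.1 := fun p => hrM.ge (RingHom.mem_ker.2 ((hτ _).trans p.2))
  choose μ hμ using hm₀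
  let Tf : J → B ⊗[B'] M := fun p => (1 : B) ⊗ₜ μ p
  have hTf : ∀ p q : J, Algebra.Extension.Cotangent.mk p = Algebra.Extension.Cotangent.mk q → Tf p = Tf q :=
    fun p q h => by
      have h1 : (p - q).1 ∈ J ^ 2 := by
        rw [← Algebra.Extension.Cotangent.mk_eq_zero_iff, map_sub, h, sub_self]
      show (1 : B) ⊗ₜ μ p = (1 : B) ⊗ₜ μ q
      congr 1
      apply hιM
      rw [hμ, hμ, ← sub_eq_zero, ← map_sub]
      exact hτ2 _ h1
  let rep := Function.surjInv (Algebra.Extension.Cotangent.mk_surjective (P := E))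
  have hrep : ∀ x, Algebra.Extension.Cotangent.mk (rep x) = x := Function.surjInv_eq _
  let T : E.Cotangent →ₗ[B] B ⊗[B'] M :=
    { toFun := fun x => Tf (rep x)
      map_add' := fun x y => by
        rw [hTf (rep (x + y)) (rep x + rep y) (by rw [map_add, hrep, hrep, hrep])]
        show (1 : B) ⊗ₜ μ _ = (1 : B) ⊗ₜ μ _ + (1 : B) ⊗ₜ μ _
        rw [← TensorProduct.tmul_add]
        congr 1
        apply hιM
        rw [map_add, hμ, hμ, hμ, ← map_add]
        rfl
      map_smul' := fun b x => by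
        obtain ⟨p, rfl⟩ := E.algebraMap_surjective b
        rw [hTf (rep (algebraMap E.Ring B p • x)) (p • rep x)
          (by rw [map_smul, hrep, hrep, algebraMap_smul]), RingHom.id_apply]
        show (1 : B) ⊗ₜ μ _ = algebraMap E.Ring B p • ((1 : B) ⊗ₜ μ _)
        have h1 : μ (p • rep x) = τ p • μ (rep x) := hιM (by
          rw [map_smul, hμ, hμ, smul_eq_mul, ← map_mul]
          rfl)
        rw [h1, TensorProduct.tmul_smul, TensorProduct.smul_tmul', TensorProduct.smul_tmul',
          Algebra.smul_def, hτ, smul_eq_mul] }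
  have hp₀ : ∀ m : M, ∃ p : J, Ideal.Quotient.mk (J ^ 2) p.1 = s (ιM m) := fun m => by
    obtain ⟨p, hp⟩ := Ideal.Quotient.mk_surjective (s (ιM m))
    refine ⟨⟨p, ?_⟩, hp⟩
    show algebraMap E.Ring B p = 0
    rw [← hπmk, hp, hsπ]
    exact (hrM.le ⟨m, rfl⟩ : _)
  choose ρ hρ using hp₀
  have hwd : ∀ p q : J, Ideal.Quotient.mk (J ^ 2) p.1 = Ideal.Quotient.mk (J ^ 2) q.1 →
      Algebra.Extension.Cotangent.mk p = Algebra.Extension.Cotangent.mk q := fun p q h => by
    rw [← sub_eq_zero, ← map_sub, Algebra.Extension.Cotangent.mk_eq_zero_iff]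
    exact Ideal.Quotient.eq.1 h
  let S₀ : M →ₗ[B'] E.Cotangent :=
    { toFun := fun m => Algebra.Extension.Cotangent.mk (ρ m)
      map_add' := fun m m' => by
        rw [← map_add]
        refine hwd _ _ ?_
        show Ideal.Quotient.mk _ (ρ (m + m')).1 = Ideal.Quotient.mk _ ((ρ m).1 + (ρ m').1)
        rw [map_add, hρ, hρ, hρ, map_add, map_add]
      map_smul' := fun r m => by
        rw [RingHom.id_apply, ← algebraMap_smul B r (Algebra.Extension.Cotangent.mk (ρ m))]
        obtain ⟨q, hq⟩ := E.algebraMap_surjective (algebraMap B' B r)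
        rw [← hq, algebraMap_smul, ← map_smul]
        refine hwd _ _ ?_
        show Ideal.Quotient.mk _ (ρ (r • m)).1 = Ideal.Quotient.mk _ (q * (ρ m).1)
        rw [map_mul, hρ, hρ, map_smul, smul_eq_mul, map_mul, ← sub_eq_zero, ← sub_mul]
        refine hmul _ _ ?_ ?_
        · rw [map_sub, hsπ, hπmk, hq, sub_self]
        · rw [hsπ]
          exact (hrM.le ⟨m, rfl⟩ : _) }
  let S : B ⊗[B'] M →ₗ[B] E.Cotangent := S₀.liftBaseChange B
  have hTS : ∀ z, T (S z) = z := fun z => by
    induction z using TensorProduct.induction_on with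
    | zero => rw [map_zero, map_zero]
    | add x y hx hy => rw [map_add, map_add, hx, hy]
    | tmul b m =>
      rw [LinearMap.liftBaseChange_tmul, map_smul]
      show b • Tf (rep (Algebra.Extension.Cotangent.mk (ρ m))) = _
      rw [hTf _ (ρ m) (hrep _)]
      show b • ((1 : B) ⊗ₜ μ (ρ m)) = _
      have h1 : μ (ρ m) = m := hιM (by
        rw [hμ]
        exact (congrArg τ' (hρ m)).trans (hid _))
      rw [h1, TensorProduct.smul_tmul', smul_eq_mul, mul_one]
  have hcomp : T ∘ₗ S = LinearMap.id := LinearMap.ext hTS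
  exact ⟨Module.Finite.of_surjective T fun z => ⟨S z, hTS z⟩, Module.Projective.of_split S T hcomp⟩

theorem finite_projective_of_lci (hB : OmegaSh.IsUnivThickeningRing A B B' (IsScalarTower.toAlgHom A B' B))
    (hlci : LCI.IsLCI A B) (ιM : M →ₗ[B'] B') (hιM : Function.Injective ιM)
    (hrM : LinearMap.range ιM = RingHom.ker (algebraMap B' B)) :
    Module.Finite B (B ⊗[B'] M) ∧ Module.Projective B (B ⊗[B'] M) := by
  obtain ⟨-, k, φ, hφ, hker⟩ := hlci
  let G : Algebra.Generators A B (Fin k) := Algebra.Generators.ofAlgHom φ hφ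
  have hG : G.toExtension.ker = RingHom.ker φ.toRingHom := by
    have : MvPolynomial.aeval G.val = φ := MvPolynomial.algHom_ext fun i => by
      rw [MvPolynomial.aeval_X]; rfl
    conv_rhs => rw [← this]
    exact G.ker_eq_ker_aeval_val
  obtain ⟨h1, h2⟩ := CI2.finite_projective_extCotangent A B G.toExtension (hG ▸ hker)
  choose b hb using fun i => hB.1 (G.val i)
  refine finite_projective_of_extension hB G.toExtension (MvPolynomial.aeval b) (fun p => ?_) ιM hιM hrM
  refine AlgHom.congr_fun (φ₁ := (IsScalarTower.toAlgHom A B' B).comp (MvPolynomial.aeval b))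
    (φ₂ := MvPolynomial.aeval G.val) (MvPolynomial.algHom_ext fun i => ?_) p |>.trans ?_
  · rw [AlgHom.comp_apply, MvPolynomial.aeval_X, MvPolynomial.aeval_X]
    exact hb i
  · rfl

end alg

variable {X Y X' : Scheme.{u}} {f : X ⟶ Y} {i : X ⟶ X'} {h' : X' ⟶ Y}

theorem isFinLocFree_conormal_of_lci (hu : OmegaSh.IsUnivThickening f i h')
    (hf : ∀ x : X, Synt.IsKoszulAt f x) : FlatMod.IsFinLocFree (Omega.conormal i) := by
  haveI := hu.1.1.1
  have hih := hu.2.1
  subst hih
  refine DPerf.isFinLocFree_of_locally fun x => ?_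
  obtain ⟨U, hU, hxU, -⟩ := exists_isAffineOpen_mem_and_subset (X := Y) (x := h' (i x)) (U := ⊤) trivial
  obtain ⟨V', hV', hxV', hle⟩ := exists_isAffineOpen_mem_and_subset (X := X') (x := i x) (U := h' ⁻¹ᵁ U) hxU
  have hV : IsAffineOpen (i ⁻¹ᵁ V') := hV'.preimage i
  refine ⟨_, hV.fromSpec, inferInstance, by rw [hV.range_fromSpec]; exact hxV', ?_⟩
  have hVU : i ⁻¹ᵁ V' ≤ (i ≫ h') ⁻¹ᵁ U := fun y hy => hle hy
  let A := Γ(Y, U)
  let B' := Γ(X', V')
  let B := Γ(X, i ⁻¹ᵁ V')
  letI : Algebra A B' := (h'.appLE U V' hle).hom.toAlgebra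
  letI : Algebra B' B := (i.appLE V' (i ⁻¹ᵁ V') le_rfl).hom.toAlgebra
  letI : Algebra A B := ((i ≫ h').appLE U (i ⁻¹ᵁ V') hVU).hom.toAlgebra
  haveI : IsScalarTower A B' B := IsScalarTower.of_algebraMap_eq' (by
    show _ = CommRingCat.Hom.hom (h'.appLE U V' hle ≫ i.appLE V' (i ⁻¹ᵁ V') le_rfl)
    rw [Scheme.Hom.appLE_comp_appLE]; rfl)
  have hB := ringUniv_sections hu hV' hU hle rfl (congrArg CommRingCat.Hom.hom i.appLE_eq_app)
  have hlci : LCI.IsLCI A B := CI2.isLCI_appLE_of_isKoszulAt (i ≫ h') hf hV hU hVU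
  let N := Omega.conormal i
  have hN : Coh.IsQCoh N := M1.isQCoh_pullback i (M2.isQCoh_idealMod _)
  letI : Module B' Γ(N, i ⁻¹ᵁ V') := PullBC11.baseModule (g := i) N (U := V') (V := i ⁻¹ᵁ V') le_rfl
  haveI : IsScalarTower B' B Γ(N, i ⁻¹ᵁ V') := IsScalarTower.of_algebraMap_smul fun _ _ => rfl
  let s₁ : Γ(ClSub.idealMod i.ker, V') →ₗ[B'] Γ(N, i ⁻¹ᵁ V') :=
    PullBC11.sect (PP12.unitTo i (ClSub.idealMod i.ker)) (le_refl (i ⁻¹ᵁ V'))
  have hs₁ : IsBaseChange B s₁ := PP12.isBC_unit i (M2.isQCoh_idealMod i.ker) hV' hV (le_refl (i ⁻¹ᵁ V'))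
  obtain ⟨h1, h2⟩ := finite_projective_of_lci hB hlci (GrMap12.inclLin i.ker V') (M2.idealIncl_injective _ _) (by
    rw [GrMap12.range_inclLin _ ⟨V', hV'⟩, Scheme.Hom.ker_apply]
    exact (congrArg (fun φ => RingHom.ker (CommRingCat.Hom.hom φ)) i.appLE_eq_app).symm)
  haveI : (N.restrict hV.fromSpec).IsQuasicoherent := M1.isQCoh_fromSpec hN hV
  let L := moduleSpecΓFunctor.obj (N.restrict hV.fromSpec)
  let eL : L ≃ₗ[B] Γ(N, i ⁻¹ᵁ V') := M1.affineSecEquiv N hV
  haveI : Module.Finite B L := Module.Finite.equiv (hs₁.equiv.trans eL.symm)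
  haveI : Module.Projective B L := Module.Projective.of_equiv (hs₁.equiv.trans eL.symm)
  exact M2.isFinLocFree_of_iso
    (@asIso _ _ _ _ (N.restrict hV.fromSpec).fromTildeΓ
      (Scheme.Modules.isIso_fromTildeΓ_of_isQuasicoherent (R := Γ(X, i ⁻¹ᵁ V')) _))
    (DPerf.isFinLocFree_tilde (M := L))

end Groth.Agent.Thick12
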