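import Groth.Agent.Lib.Thick12.Glue
import Groth.Agent.Lib.GrMap12.Transitive
import Groth.Agent.Lib.GrMap12.Conormal
import Groth.Agent.Lib.GrMap12.Relative

/-!
# The conormal sequence of a composition of formally unramified morphisms

`isPullback_thickenings`, `exact_conormal_univThickening`.
-/

set_option autoImplicit false
set_option backward.isDefEq.respectTransparency false
set_option backward.isDefEq.respectTransparency.types false
set_option linter.style.haveILetI false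

universe u

open CategoryTheory CategoryTheory.Limits AlgebraicGeometry TopologicalSpace Opposite

namespace Groth.Agent.Thick12

variable {Z Y X Z' Y' Z'' : Scheme.{u}} {i : Z ⟶ Y} {b : Y ⟶ X} {i' : Z ⟶ Z'} {c : Z' ⟶ X} {j : Y ⟶ Y'}
  {d : Y' ⟶ X} {m : Z' ⟶ Y'} {i'' : Z ⟶ Z''} {e : Z'' ⟶ Y} {n : Z'' ⟶ Z'}

/-- The thickenings of a composition form a cartesian square. -/
theorem isPullback_thickenings (hZ' : OmegaSh.IsUnivThickening (i ≫ b) i' c) (hY' : OmegaSh.IsUnivThickening b j d)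
    (hm₁ : i' ≫ m = i ≫ j) (hm₂ : m ≫ d = c) (hZ'' : OmegaSh.IsUnivThickening i i'' e) (hn₁ : i'' ≫ n = i')
    (hn₂ : n ≫ c = e ≫ b) : IsPullback e n j m := by
  obtain ⟨m₀, hm₀, hm₀d, hP⟩ := exists_map_isUnivThickening_comp i b i' c hZ' j d hY'
  obtain rfl : m₀ = m := (hY'.2.2 Z Z' i' c i hZ'.1 hZ'.2.1).unique ⟨hm₀, hm₀d⟩ ⟨hm₁, hm₂⟩
  obtain ⟨E, hE₁, hE₂⟩ := exists_iso_of_univ hZ'' hP
  have hn : n = E.hom ≫ pullback.snd j m₀ := by
    refine (hZ'.2.2 Z Z'' i'' (e ≫ b) (𝟙 Z) hZ''.1 (by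
      rw [← Category.assoc, hZ''.2.1, Category.id_comp])).unique ⟨by rw [hn₁, Category.id_comp], hn₂⟩ ⟨?_, ?_⟩
    · rw [reassoc_of% hE₁, pullback.lift_snd, Category.id_comp]
    · rw [Category.assoc, ← hm₂, ← reassoc_of% pullback.condition (f := j) (g := m₀), hY'.2.1, reassoc_of% hE₂]
  exact IsPullback.of_iso (IsPullback.of_hasPullback j m₀) E.symm (Iso.refl _) (Iso.refl _) (Iso.refl _)
    (by simp [← hE₂]) (by simp [hn]) (by simp) (by simp)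

section kills

variable {F : Z.Modules}

/-- A morphism out of the conormal sheaf of `i'` killing the classes coming from `j`. -/
def Kills (m : Z' ⟶ Y') (j : Y ⟶ Y') (i' : Z ⟶ Z') (β : Omega.conormal i' ⟶ F) : Prop :=
  ∀ (U : Y'.Opens) (s : Γ(ClSub.idealMod j.ker, U)) (t : Γ(ClSub.idealMod i'.ker, m ⁻¹ᵁ U)),
    M2.idealIncl i'.ker t = m.app U (M2.idealIncl j.ker s) →
    β.app (i' ⁻¹ᵁ (m ⁻¹ᵁ U)) (OmegaSh.conormalSect i' (m ⁻¹ᵁ U) t) = 0

theorem e0 (G : Z.Modules) (O : Z.Opens) (x : Γ(G, O)) : M1.mres G (le_rfl : O ≤ O) x = x :=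
  ConcreteCategory.congr_hom (G.presheaf.map_id (op O)) x

theorem eq_zero_of_mres {G : Z.Modules} {O O' : Z.Opens} (h : O' ≤ O) (h' : O ≤ O') {x : Γ(G, O)}
    (hx : M1.mres G h x = 0) : x = 0 := by
  have := congrArg (M1.mres G h') hx
  rwa [M1.mres_mres, map_zero, e0] at this

theorem exists_t (w : i' ≫ m = i ≫ j) {U : Y'.Opens} (s : Γ(ClSub.idealMod j.ker, U)) :
    ∃ t : Γ(ClSub.idealMod i'.ker, m ⁻¹ᵁ U), M2.idealIncl i'.ker t = m.app U (M2.idealIncl j.ker s) :=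
  ⟨_, GrMap12.idealIncl_psi m j.ker i'.ker (GrMap12.ker_le_map (gZ := i) w.symm) s⟩

theorem comp_eq_zero_iff (w : i' ≫ m = i ≫ j)
    {ψ₁ : (Scheme.Modules.pullback i).obj (Omega.conormal j) ⟶ Omega.conormal i'}
    (hψ₁ : OmegaSh.IsConormalMap i' j m i ψ₁) (β : Omega.conormal i' ⟶ F) :
    ψ₁ ≫ β = 0 ↔ Kills m j i' β := by
  have hle : ∀ U : Y'.Opens, i' ⁻¹ᵁ (m ⁻¹ᵁ U) = i ⁻¹ᵁ (j ⁻¹ᵁ U) := fun U => by
    rw [← Scheme.Hom.comp_preimage, ← Scheme.Hom.comp_preimage, w]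
  constructor
  · intro h U s t ht
    have h1 : β.app (i ⁻¹ᵁ (j ⁻¹ᵁ U))
        (ψ₁.app (i ⁻¹ᵁ (j ⁻¹ᵁ U)) (OmegaSh.pullSect i _ (j ⁻¹ᵁ U) (OmegaSh.conormalSect j U s))) = 0 :=
      congrArg (fun χ => Scheme.Modules.Hom.app χ (i ⁻¹ᵁ (j ⁻¹ᵁ U))
        (OmegaSh.pullSect i _ (j ⁻¹ᵁ U) (OmegaSh.conormalSect j U s))) h
    refine eq_zero_of_mres le_rfl le_rfl ?_
    have h3 : M1.mres (Omega.conormal i') (hle U).le
        (ψ₁.app (i ⁻¹ᵁ (j ⁻¹ᵁ U)) (OmegaSh.pullSect i _ (j ⁻¹ᵁ U) (OmegaSh.conormalSect j U s))) =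
        M1.mres (Omega.conormal i') le_rfl (OmegaSh.conormalSect i' (m ⁻¹ᵁ U) t) :=
      hψ₁.2 U s t ht _ (hle U).le le_rfl
    rw [← M1.app_mres, ← h3, M1.app_mres, h1, map_zero]
  · intro h
    apply ((Scheme.Modules.pullbackPushforwardAdjunction i).homEquiv _ _).injective
    apply ((Scheme.Modules.pullbackPushforwardAdjunction j).homEquiv _ _).injective
    ext U s
    simp only [Adjunction.homEquiv_unit, Functor.map_zero, comp_zero]
    show β.app (i ⁻¹ᵁ (j ⁻¹ᵁ U))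
      (ψ₁.app (i ⁻¹ᵁ (j ⁻¹ᵁ U)) (OmegaSh.pullSect i _ (j ⁻¹ᵁ U) (OmegaSh.conormalSect j U s))) = 0
    obtain ⟨t, ht⟩ := exists_t w s
    refine eq_zero_of_mres (hle U).le (hle U).ge ?_
    have h3 : M1.mres (Omega.conormal i') (hle U).le
        (ψ₁.app (i ⁻¹ᵁ (j ⁻¹ᵁ U)) (OmegaSh.pullSect i _ (j ⁻¹ᵁ U) (OmegaSh.conormalSect j U s))) =
        M1.mres (Omega.conormal i') le_rfl (OmegaSh.conormalSect i' (m ⁻¹ᵁ U) t) :=
      hψ₁.2 U s t ht _ (hle U).le le_rfl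
    rw [← M1.app_mres, h3, M1.app_mres, h U s t ht, map_zero]

end kills

theorem exact_conormal_univThickening (hZ' : OmegaSh.IsUnivThickening (i ≫ b) i' c)
    (hY' : OmegaSh.IsUnivThickening b j d)
    (hm₁ : i' ≫ m = i ≫ j) (hm₂ : m ≫ d = c) (hZ'' : OmegaSh.IsUnivThickening i i'' e) (hn₁ : i'' ≫ n = i')
    (hn₂ : n ≫ c = e ≫ b)
    (ψ₁ : (Scheme.Modules.pullback i).obj (Omega.conormal j) ⟶ Omega.conormal i') (hψ₁ : OmegaSh.IsConormalMap i' j m i ψ₁)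
    (ψ₂ : (Scheme.Modules.pullback (𝟙 Z)).obj (Omega.conormal i') ⟶ Omega.conormal i'')
    (hψ₂ : OmegaSh.IsConormalMap i'' i' n (𝟙 Z) ψ₂) :
    ∃ w : (Scheme.Modules.pullback (𝟙 Z)).map ψ₁ ≫ ψ₂ = 0, (ShortComplex.mk _ _ w).Exact ∧ Epi ψ₂ := by
  have H := isPullback_thickenings hZ' hY' hm₁ hm₂ hZ'' hn₁ hn₂
  haveI := hY'.1.1.1
  haveI := hZ''.1.1.1
  haveI : IsClosedImmersion n := MorphismProperty.of_isPullback H inferInstance
  subst hn₁
  let N := Omega.conormal (i'' ≫ n)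
  let γ : N ⟶ Omega.conormal i'' := (Scheme.Modules.pullbackId Z).inv.app N ≫ ψ₂
  obtain ⟨φ₁, hφ₁, -⟩ := GrMap12.existsUnique_conormalMap (i := i'' ≫ n) (i' := n) (gZ := i'') (g := 𝟙 Z')
    (Category.comp_id _).symm
  obtain ⟨ρ, hρ, -⟩ := GrMap12.existsUnique_conormalMap (i := n) (i' := j) (gZ := e) (g := m) H.w
  haveI := (GrMap12.epi_and_isIso_of_isPullback H hρ).1
  obtain ⟨h0, hex, hepi⟩ := GrMap12.exact_conormal φ₁ hφ₁ ψ₂ hψ₂
  haveI := hepi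
  haveI hγe : Epi γ := inferInstanceAs (Epi (_ ≫ ψ₂))
  -- `γ` kills the classes coming from `j`
  have hγk : Kills m j (i'' ≫ n) γ := fun U s t ht => by
    let s₂ : Γ(ClSub.idealMod i''.ker, n ⁻¹ᵁ (m ⁻¹ᵁ U)) := 0
    show ψ₂.app ((i'' ≫ n) ⁻¹ᵁ (m ⁻¹ᵁ U))
      (((Scheme.Modules.pullbackId Z).inv.app N).app _ (OmegaSh.conormalSect (i'' ≫ n) (m ⁻¹ᵁ U) t)) = 0
    rw [Omega12.pullbackId_inv_app]
    refine (e0 _ _ _).symm.trans ((hψ₂.2 (m ⁻¹ᵁ U) t s₂ ?_ _ le_rfl le_rfl).trans ?_)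
    · show M2.idealIncl i''.ker s₂ = n.app (m ⁻¹ᵁ U) (M2.idealIncl (i'' ≫ n).ker t)
      rw [ht, show M2.idealIncl i''.ker s₂ = 0 from map_zero ((ClSub.idealModι i''.ker).app _).hom,
        ← CategoryTheory.comp_apply, ← Scheme.Hom.comp_app]
      refine (ConormalBC19.app_eq_zero_of_eq H.w ?_).symm
      rw [Scheme.Hom.comp_app, CommRingCat.comp_apply, GrMap12.app_idealIncl_eq_zero, map_zero]
    · exact (congrArg _ (map_zero (OmegaSh.conormalSect i'' _).hom)).trans (map_zero _)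
  have hw : ψ₁ ≫ γ = 0 := (comp_eq_zero_iff hm₁ hψ₁ γ).2 hγk
  -- a morphism killing `ψ₁` kills `φ₁`
  have hk : ∀ (F : Z.Modules) (β : N ⟶ F), ψ₁ ≫ β = 0 → φ₁ ≫ β = 0 := fun F β hβ => by
    have hkb := (comp_eq_zero_iff hm₁ hψ₁ β).1 hβ
    haveI : (Scheme.Modules.pullback i'').IsLeftAdjoint :=
      (Scheme.Modules.pullbackPushforwardAdjunction i'').isLeftAdjoint
    refine (cancel_epi ((Scheme.Modules.pullback i'').map ρ)).1 ?_
    rw [comp_zero]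
    apply ((Scheme.Modules.pullbackPushforwardAdjunction i'').homEquiv _ _).injective
    apply ((Scheme.Modules.pullbackPushforwardAdjunction e).homEquiv _ _).injective
    apply ((Scheme.Modules.pullbackPushforwardAdjunction j).homEquiv _ _).injective
    ext U s
    simp only [Adjunction.homEquiv_unit, Functor.map_zero, comp_zero]
    let Q := (Scheme.Modules.pullback e).obj (Omega.conormal j)
    let O := e ⁻¹ᵁ (j ⁻¹ᵁ U)
    let q : Γ(Q, O) := OmegaSh.pullSect e _ (j ⁻¹ᵁ U) (OmegaSh.conormalSect j U s)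
    show β.app (i'' ⁻¹ᵁ O) (φ₁.app (i'' ⁻¹ᵁ O) (((Scheme.Modules.pullback i'').map ρ).app (i'' ⁻¹ᵁ O)
      (OmegaSh.pullSect i'' Q O q))) = 0
    have hnat : ((Scheme.Modules.pullback i'').map ρ).app (i'' ⁻¹ᵁ O) (OmegaSh.pullSect i'' Q O q) =
        OmegaSh.pullSect i'' (Omega.conormal n) O (ρ.app O q) :=
      (congrArg (fun χ => Scheme.Modules.Hom.app χ O q)
        ((Scheme.Modules.pullbackPushforwardAdjunction i'').unit.naturality ρ)).symm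
    rw [hnat]
    have hOle : O = n ⁻¹ᵁ (m ⁻¹ᵁ U) := by
      show e ⁻¹ᵁ (j ⁻¹ᵁ U) = _
      rw [← Scheme.Hom.comp_preimage, ← Scheme.Hom.comp_preimage, H.w]
    obtain ⟨t₁, ht₁⟩ := exists_t (i' := n) (m := m) (i := e) (j := j) H.w.symm s
    obtain ⟨t, ht⟩ := exists_t (i' := i'' ≫ n) hm₁ s
    have hρq : ρ.app O q = M1.mres (Omega.conormal n) hOle.le (OmegaSh.conormalSect n (m ⁻¹ᵁ U) t₁) :=
      (ConcreteCategory.congr_hom ((Omega.conormal n).presheaf.map_id (op O)) _).symm.trans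
        (hρ.2 U s t₁ ht₁ O le_rfl hOle.le)
    rw [hρq]
    have hps : OmegaSh.pullSect i'' (Omega.conormal n) O (M1.mres (Omega.conormal n) hOle.le
        (OmegaSh.conormalSect n (m ⁻¹ᵁ U) t₁)) =
        M1.mres ((Scheme.Modules.pullback i'').obj (Omega.conormal n)) (i''.preimage_mono hOle.le)
          (OmegaSh.pullSect i'' (Omega.conormal n) (n ⁻¹ᵁ (m ⁻¹ᵁ U)) (OmegaSh.conormalSect n (m ⁻¹ᵁ U) t₁)) :=
      M1.app_mres ((Scheme.Modules.pullbackPushforwardAdjunction i'').unit.app (Omega.conormal n)) hOle.le _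
    rw [hps, M1.app_mres]
    have hφq : φ₁.app (i'' ⁻¹ᵁ (n ⁻¹ᵁ (m ⁻¹ᵁ U)))
        (OmegaSh.pullSect i'' (Omega.conormal n) (n ⁻¹ᵁ (m ⁻¹ᵁ U)) (OmegaSh.conormalSect n (m ⁻¹ᵁ U) t₁)) =
        OmegaSh.conormalSect (i'' ≫ n) (m ⁻¹ᵁ U) t :=
      (e0 _ _ _).symm.trans ((hφ₁.2 (m ⁻¹ᵁ U) t₁ t (ht.trans ht₁.symm) _ le_rfl le_rfl).trans (e0 _ _ _))
    rw [hφq, M1.app_mres]
    exact (congrArg _ (hkb U s t ht)).trans (map_zero _)
  have hexψ : (ShortComplex.mk ψ₁ γ hw).Exact := by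
    refine ShortComplex.exact_of_g_is_cokernel _ ?_
    let hcok : IsColimit (CokernelCofork.ofπ γ h0) := hex.gIsCokernel
    exact CokernelCofork.IsColimit.ofπ _ _
      (fun β hβ => (CokernelCofork.IsColimit.desc' hcok β (hk _ β hβ)).1)
      (fun β hβ => (CokernelCofork.IsColimit.desc' hcok β (hk _ β hβ)).2)
      (fun β hβ q hq => (cancel_epi γ).1 (hq.trans (CokernelCofork.IsColimit.desc' hcok β (hk _ β hβ)).2.symm))
  have hmap : (Scheme.Modules.pullback (𝟙 Z)).map ψ₁ =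
      (Scheme.Modules.pullbackId Z).hom.app _ ≫ ψ₁ ≫ (Scheme.Modules.pullbackId Z).inv.app N := by
    exact (NatIso.naturality_2 (Scheme.Modules.pullbackId Z) ψ₁).symm
  have w : (Scheme.Modules.pullback (𝟙 Z)).map ψ₁ ≫ ψ₂ = 0 := by
    rw [hmap, Category.assoc, Category.assoc]
    exact (congrArg (_ ≫ ·) hw).trans comp_zero
  refine ⟨w, ShortComplex.exact_of_iso (ShortComplex.isoMk (S₁ := ShortComplex.mk ψ₁ γ hw)
    (S₂ := ShortComplex.mk _ _ w) ((Scheme.Modules.pullbackId Z).symm.app _)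
    ((Scheme.Modules.pullbackId Z).symm.app N) (Iso.refl _) ?_ ?_) hexψ, inferInstance⟩
  · exact ((Scheme.Modules.pullbackId Z).inv.naturality ψ₁).symm
  · exact (Category.comp_id _).symm

end Groth.Agent.Thick12
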