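import Groth.Agent.Lib.Thick12.LciAlg
import Groth.Agent.Lib.Thick12.Props
import Groth.Agent.Lib.Thick12.Transitivity
import Groth.Agent.Lib.GrMap12.MonoRel
import Groth.Agent.Lib.CI2.KoszulFlat

/-!
# Transitivity of conormal sheaves is left exact for local complete intersections

`mono_conormalMap_of_lci`.
-/

set_option autoImplicit false
set_option backward.isDefEq.respectTransparency false
set_option backward.isDefEq.respectTransparency.types false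
set_option linter.style.haveILetI false

universe u

open CategoryTheory CategoryTheory.Limits AlgebraicGeometry TopologicalSpace Opposite TensorProduct

namespace Groth.Agent.Thick12

variable {Z Y X Z' Y' : Scheme.{u}} {i : Z ⟶ Y} {b : Y ⟶ X} {i' : Z ⟶ Z'} {c : Z' ⟶ X} {j : Y ⟶ Y'}
  {d : Y' ⟶ X} {m : Z' ⟶ Y'}

set_option maxHeartbeats 2000000 in
theorem injective_app_lci (hZ' : OmegaSh.IsUnivThickening (i ≫ b) i' c) (hY' : OmegaSh.IsUnivThickening b j d)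
    (hm₁ : i' ≫ m = i ≫ j) (hm₂ : m ≫ d = c)
    {ψ₁ : (Scheme.Modules.pullback i).obj (Omega.conormal j) ⟶ Omega.conormal i'}
    (hψ₁ : OmegaSh.IsConormalMap i' j m i ψ₁) (hlci : ∀ z : Z, Synt.IsKoszulAt i z)
    {W : X.Opens} (hW : IsAffineOpen W) {VY : Y'.Opens} (hVY : IsAffineOpen VY) (hdW : VY ≤ d ⁻¹ᵁ W)
    {V' : Z'.Opens} (hV' : IsAffineOpen V') (hmV : V' ≤ m ⁻¹ᵁ VY) :
    Function.Injective (ψ₁.app (i' ⁻¹ᵁ V')) := by
  haveI := hY'.1.1.1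
  haveI := hZ'.1.1.1
  subst hm₂
  have hU : IsAffineOpen (j ⁻¹ᵁ VY) := hVY.preimage j
  have hV : IsAffineOpen (i' ⁻¹ᵁ V') := hV'.preimage i'
  have hle : i' ⁻¹ᵁ V' ≤ i ⁻¹ᵁ (j ⁻¹ᵁ VY) := fun x hx => by
    have h : (i' ≫ m) x ∈ VY := hmV hx
    rw [hm₁] at h
    exact h
  have hcW : V' ≤ (m ≫ d) ⁻¹ᵁ W := fun x hx => hdW (hmV hx)
  let A := Γ(X, W)
  let B' := Γ(Y', VY)
  let B := Γ(Y, j ⁻¹ᵁ VY)
  let C' := Γ(Z', V')
  let C := Γ(Z, i' ⁻¹ᵁ V')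
  letI : Algebra A B' := (d.appLE W VY hdW).hom.toAlgebra
  letI : Algebra A C' := ((m ≫ d).appLE W V' hcW).hom.toAlgebra
  letI : Algebra B' B := (j.appLE VY (j ⁻¹ᵁ VY) le_rfl).hom.toAlgebra
  letI : Algebra C' C := (i'.appLE V' (i' ⁻¹ᵁ V') le_rfl).hom.toAlgebra
  letI : Algebra B' C' := (m.appLE VY V' hmV).hom.toAlgebra
  letI : Algebra B C := (i.appLE (j ⁻¹ᵁ VY) (i' ⁻¹ᵁ V') hle).hom.toAlgebra
  letI : Algebra A B := ((algebraMap B' B).comp (algebraMap A B')).toAlgebra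
  letI : Algebra A C := ((algebraMap C' C).comp (algebraMap A C')).toAlgebra
  letI : Algebra B' C := ((algebraMap B C).comp (algebraMap B' B)).toAlgebra
  haveI : IsScalarTower A B' B := IsScalarTower.of_algebraMap_eq' rfl
  haveI : IsScalarTower A C' C := IsScalarTower.of_algebraMap_eq' rfl
  haveI : IsScalarTower B' B C := IsScalarTower.of_algebraMap_eq' rfl
  haveI : IsScalarTower A B' C' := IsScalarTower.of_algebraMap_eq' (by
    show _ = CommRingCat.Hom.hom (d.appLE W VY hdW ≫ m.appLE VY V' hmV)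
    rw [Scheme.Hom.appLE_comp_appLE]; rfl)
  haveI : IsScalarTower B' C' C := IsScalarTower.of_algebraMap_eq' (by
    show CommRingCat.Hom.hom (j.appLE VY (j ⁻¹ᵁ VY) le_rfl ≫ i.appLE (j ⁻¹ᵁ VY) (i' ⁻¹ᵁ V') hle) =
      CommRingCat.Hom.hom (m.appLE VY V' hmV ≫ i'.appLE V' (i' ⁻¹ᵁ V') le_rfl)
    simp only [Scheme.Hom.appLE_comp_appLE, hm₁])
  haveI : IsScalarTower A B' C := IsScalarTower.of_algebraMap_eq fun a => by
    rw [IsScalarTower.algebraMap_apply A C' C, IsScalarTower.algebraMap_apply A B' C',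
      ← IsScalarTower.algebraMap_apply B' C' C]
  haveI : IsScalarTower A B C := IsScalarTower.of_algebraMap_eq fun a => by
    rw [IsScalarTower.algebraMap_apply A B' C, IsScalarTower.algebraMap_apply A B' B,
      ← IsScalarTower.algebraMap_apply B' B C]
  have hB := ringUniv_sections hY' hVY hW hdW rfl (congrArg CommRingCat.Hom.hom j.appLE_eq_app)
  have hC := ringUniv_sections hZ' hV' hW hcW rfl (congrArg CommRingCat.Hom.hom i'.appLE_eq_app)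
  have hlci' : LCI.IsLCI B C := CI2.isLCI_appLE_of_isKoszulAt i hlci hV hU hle
  let N₁ := Omega.conormal j
  let N₂ := (Scheme.Modules.pullback i).obj N₁
  have hN₁ : Coh.IsQCoh N₁ := M1.isQCoh_pullback j (M2.isQCoh_idealMod _)
  letI : Module B' Γ(N₁, j ⁻¹ᵁ VY) :=
    PullBC11.baseModule (g := j) N₁ (U := VY) (V := j ⁻¹ᵁ VY) le_rfl
  haveI : IsScalarTower B' B Γ(N₁, j ⁻¹ᵁ VY) := IsScalarTower.of_algebraMap_smul fun _ _ => rfl
  letI : Module B Γ(N₂, i' ⁻¹ᵁ V') := PullBC11.baseModule (g := i) N₂ hle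
  haveI : IsScalarTower B C Γ(N₂, i' ⁻¹ᵁ V') := IsScalarTower.of_algebraMap_smul fun _ _ => rfl
  letI : Module B' Γ(N₂, i' ⁻¹ᵁ V') := Module.compHom _ (algebraMap B' C)
  haveI : IsScalarTower B' C Γ(N₂, i' ⁻¹ᵁ V') := IsScalarTower.of_algebraMap_smul fun _ _ => rfl
  haveI : IsScalarTower B' B Γ(N₂, i' ⁻¹ᵁ V') := IsScalarTower.of_algebraMap_smul fun _ _ => rfl
  let s₁ : Γ(ClSub.idealMod j.ker, VY) →ₗ[B'] Γ(N₁, j ⁻¹ᵁ VY) :=
    PullBC11.sect (PP12.unitTo j (ClSub.idealMod j.ker)) (le_refl (j ⁻¹ᵁ VY))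
  have hs₁ : IsBaseChange B s₁ := PP12.isBC_unit j (M2.isQCoh_idealMod j.ker) hVY hU (le_refl (j ⁻¹ᵁ VY))
  let s₂ : Γ(N₁, j ⁻¹ᵁ VY) →ₗ[B] Γ(N₂, i' ⁻¹ᵁ V') := PullBC11.sect (PP12.unitTo i N₁) hle
  have hs₂ : IsBaseChange C s₂ := PP12.isBC_unit i hN₁ hU hV hle
  have hBC₁ : IsBaseChange C ((s₂.restrictScalars B').comp s₁) := hs₁.comp hs₂
  letI : Module C' Γ(Omega.conormal i', i' ⁻¹ᵁ V') :=
    PullBC11.baseModule (g := i') (Omega.conormal i') (U := V') (V := i' ⁻¹ᵁ V') le_rfl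
  haveI : IsScalarTower C' C Γ(Omega.conormal i', i' ⁻¹ᵁ V') := IsScalarTower.of_algebraMap_smul fun _ _ => rfl
  let s₃ : Γ(ClSub.idealMod i'.ker, V') →ₗ[C'] Γ(Omega.conormal i', i' ⁻¹ᵁ V') :=
    PullBC11.sect (PP12.unitTo i' (ClSub.idealMod i'.ker)) (le_refl (i' ⁻¹ᵁ V'))
  have hBC₂ : IsBaseChange C s₃ := PP12.isBC_unit i' (M2.isQCoh_idealMod i'.ker) hV' hV (le_refl (i' ⁻¹ᵁ V'))
  have hn : ∀ a : Γ(ClSub.idealMod j.ker, VY), ∃ s : Γ(ClSub.idealMod i'.ker, V'),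
      GrMap12.inclLin i'.ker V' s = algebraMap B' C' (GrMap12.inclLin j.ker VY a) ∧
      ψ₁.app (i' ⁻¹ᵁ V') (s₂ (s₁ a)) = s₃ s := fun a => by
    obtain ⟨t, ht⟩ := exists_t hm₁ a
    refine ⟨M1.mres (ClSub.idealMod i'.ker) hmV t, ?_, ?_⟩
    · show M2.idealIncl i'.ker (M1.mres (ClSub.idealMod i'.ker) hmV t) =
        m.appLE VY V' hmV (M2.idealIncl j.ker a)
      rw [GrMap12.idealIncl_mres, ht]
      rfl
    · have h1 : s₁ a = OmegaSh.conormalSect j VY a := e0 _ _ _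
      have h2 : s₃ (M1.mres (ClSub.idealMod i'.ker) hmV t) =
          OmegaSh.conormalSect i' V' (M1.mres (ClSub.idealMod i'.ker) hmV t) := e0 _ _ _
      rw [h1, h2, GrMap12.conormalSect_mres]
      show ψ₁.app _ (M1.mres N₂ hle (OmegaSh.pullSect i N₁ (j ⁻¹ᵁ VY) (OmegaSh.conormalSect j VY a))) = _
      exact (M1.app_mres ψ₁ hle _).trans (hψ₁.2 VY a t ht _ hle (i'.preimage_mono hmV))
  choose n hn hnψ using hn
  let d₀ : C ⊗[B'] Γ(ClSub.idealMod j.ker, VY) →+ C ⊗[C'] Γ(ClSub.idealMod i'.ker, V') :=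
    hBC₂.equiv.symm.toLinearMap.toAddMonoidHom.comp
      ((ψ₁.app (i' ⁻¹ᵁ V')).hom.comp hBC₁.equiv.toLinearMap.toAddMonoidHom)
  intro a b hab
  rw [← sub_eq_zero]
  obtain ⟨z, hz⟩ := hBC₁.equiv.surjective (a - b)
  rw [← hz]
  refine (congrArg hBC₁.equiv (eq_zero_of_lci hB hC hlci' (GrMap12.inclLin j.ker VY) (M2.idealIncl_injective _ _) ?_
    (GrMap12.inclLin i'.ker V') ?_ n hn d₀ (fun r a => ?_) z ?_)).trans (map_zero _)
  · rw [GrMap12.range_inclLin _ ⟨VY, hVY⟩, Scheme.Hom.ker_apply]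
    exact (congrArg (fun φ => RingHom.ker (CommRingCat.Hom.hom φ)) j.appLE_eq_app).symm
  · rw [GrMap12.range_inclLin _ ⟨V', hV'⟩, Scheme.Hom.ker_apply]
    exact (congrArg (fun φ => RingHom.ker (CommRingCat.Hom.hom φ)) i'.appLE_eq_app).symm
  · show hBC₂.equiv.symm (ψ₁.app (i' ⁻¹ᵁ V') (hBC₁.equiv (r ⊗ₜ a))) = _
    rw [hBC₁.equiv_tmul, Scheme.Modules.Hom.app_smul, LinearEquiv.symm_apply_eq, hBC₂.equiv_tmul]
    congr 1
    exact hnψ a
  · show hBC₂.equiv.symm (ψ₁.app (i' ⁻¹ᵁ V') (hBC₁.equiv z)) = 0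
    rw [hz, map_sub, hab, sub_self, map_zero]

theorem mono_conormalMap_of_lci (hZ' : OmegaSh.IsUnivThickening (i ≫ b) i' c) (hY' : OmegaSh.IsUnivThickening b j d)
    (hm₁ : i' ≫ m = i ≫ j) (hm₂ : m ≫ d = c)
    {ψ₁ : (Scheme.Modules.pullback i).obj (Omega.conormal j) ⟶ Omega.conormal i'}
    (hψ₁ : OmegaSh.IsConormalMap i' j m i ψ₁) (hlci : ∀ z : Z, Synt.IsKoszulAt i z) : Mono ψ₁ := by
  haveI := hY'.1.1.1
  haveI := hZ'.1.1.1
  let P : Z.affineOpens → Prop := fun V => ∃ (W : X.Opens) (VY : Y'.Opens) (V' : Z'.Opens),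
    IsAffineOpen W ∧ IsAffineOpen VY ∧ VY ≤ d ⁻¹ᵁ W ∧ IsAffineOpen V' ∧ V' ≤ m ⁻¹ᵁ VY ∧ V.1 = i' ⁻¹ᵁ V'
  have hP : KoszShH13.IsAffBasis P := fun O z hz => by
    obtain ⟨W, hW, hzW, -⟩ := exists_isAffineOpen_mem_and_subset (X := X) (x := d (m (i' z))) (U := ⊤) trivial
    obtain ⟨VY, hVY, hzV, hVle⟩ := exists_isAffineOpen_mem_and_subset (X := Y') (x := m (i' z)) (U := d ⁻¹ᵁ W) hzW
    obtain ⟨T, hT, hTO⟩ := i'.isEmbedding.isInducing.isOpen_iff.1 O.2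
    have hzT : i' z ∈ T := by
      have : z ∈ i' ⁻¹' T := by rw [hTO]; exact hz
      exact this
    obtain ⟨V', hV', hzV', hV'le⟩ := exists_isAffineOpen_mem_and_subset (X := Z') (x := i' z)
      (U := m ⁻¹ᵁ VY ⊓ ⟨T, hT⟩) ⟨hzV, hzT⟩
    refine ⟨⟨_, hV'.preimage i'⟩, ⟨W, VY, V', hW, hVY, hVle, hV', fun x hx => (hV'le hx).1, rfl⟩, hzV',
      fun y hy => ?_⟩
    have h2 : y ∈ i' ⁻¹' T := (hV'le hy).2
    rw [hTO] at h2
    exact h2
  exact Preadditive.mono_of_cancel_zero _ fun {F} α hα => KoszShH13.hom_ext_basis hP fun V hV x => by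
    obtain ⟨W, VY, V', hW, hVY, hdW, hV', hmV, hVe⟩ := hV
    obtain ⟨V, hVa⟩ := V
    subst hVe
    refine injective_app_lci hZ' hY' hm₁ hm₂ hψ₁ hlci hW hVY hdW hV' hmV ?_
    show (α ≫ ψ₁).app _ x = ψ₁.app _ ((0 : F ⟶ (Scheme.Modules.pullback i).obj (Omega.conormal j)).app _ x)
    rw [hα, show (0 : F ⟶ (Scheme.Modules.pullback i).obj (Omega.conormal j)).app (i' ⁻¹ᵁ V') x = 0 from by simp,
      map_zero]
    simp

end Groth.Agent.Thick12
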