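import Groth.Agent.Lib.Thick12.Formal
import Mathlib.AlgebraicGeometry.Cover.Open

/-!
# Locality of the universal property of thickenings

`existsUnique_of_cover`, `univ_comp_openImmersion`, `univ_of_iso`.
-/

set_option autoImplicit false
set_option backward.isDefEq.respectTransparency false
set_option backward.isDefEq.respectTransparency.types false
set_option linter.style.haveILetI false

universe u

open CategoryTheory CategoryTheory.Limits AlgebraicGeometry TopologicalSpace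

namespace Groth.Agent.Thick12

variable {Z Z' X T T' : Scheme.{u}}

/-- A solution of the lifting problem. -/
def IsLift (i : Z ⟶ Z') (h' : Z' ⟶ X) (j : T ⟶ T') (b : T' ⟶ X) (a : T ⟶ Z) (a' : T' ⟶ Z') : Prop :=
  j ≫ a' = a ≫ i ∧ a' ≫ h' = b

theorem isLift_precomp {i : Z ⟶ Z'} {h' : Z' ⟶ X} {j : T ⟶ T'} {b : T' ⟶ X} {a : T ⟶ Z} {a' : T' ⟶ Z'}
    (hl : IsLift i h' j b a a') {S S' : Scheme.{u}} (jS : S ⟶ S') (p : S' ⟶ T') (pS : S ⟶ T) (w : jS ≫ p = pS ≫ j) :
    IsLift i h' jS (p ≫ b) (pS ≫ a) (p ≫ a') :=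
  ⟨by rw [reassoc_of% w, hl.1, Category.assoc], by rw [Category.assoc, hl.2]⟩

theorem isFirstOrderThickening_snd (j : T ⟶ T') (hj : MoreMor.IsFirstOrderThickening j) {P : Scheme.{u}}
    (p : P ⟶ T') : MoreMor.IsFirstOrderThickening (pullback.snd j p) :=
  isFirstOrderThickening_of_isPullback (IsPullback.of_hasPullback j p).flip hj

/-- Unique liftability can be checked on an open cover of the test thickening. -/
theorem existsUnique_of_cover (i : Z ⟶ Z') (h' : Z' ⟶ X) (j : T ⟶ T') (b : T' ⟶ X) (a : T ⟶ Z)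
    {κ : Type u} (O : κ → T'.Opens) (hO : ∀ t : T', ∃ k, t ∈ O k)
    (h : ∀ (k : κ) (P : Scheme.{u}) (p : P ⟶ T') [IsOpenImmersion p], Set.range p ⊆ O k →
      ∃! a', IsLift i h' (pullback.snd j p) (p ≫ b) (pullback.fst j p ≫ a) a') :
    ∃! a', IsLift i h' j b a a' := by
  have huniq : ∀ a₁ a₂, IsLift i h' j b a a₁ → IsLift i h' j b a a₂ → a₁ = a₂ := fun a₁ a₂ h₁ h₂ => by
    let 𝒰 : T'.OpenCover := T'.openCoverOfIsOpenCover O (by
      rw [IsOpenCover, eq_top_iff]
      exact fun t _ => Opens.mem_iSup.2 (hO t))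
    refine 𝒰.hom_ext _ _ fun k => ?_
    refine (h k _ (O k).ι (by rw [Scheme.Opens.range_ι])).unique ?_ ?_
    · exact isLift_precomp h₁ _ _ _ pullback.condition.symm
    · exact isLift_precomp h₂ _ _ _ pullback.condition.symm
  let 𝒰 : T'.OpenCover := T'.openCoverOfIsOpenCover O (by
    rw [IsOpenCover, eq_top_iff]
    exact fun t _ => Opens.mem_iSup.2 (hO t))
  choose l hl _ using fun k => h k _ (O k).ι (by rw [Scheme.Opens.range_ι])
  have hcompat : ∀ x y, pullback.fst (𝒰.f x) (𝒰.f y) ≫ l x = pullback.snd _ _ ≫ l y := by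
    intro x y
    let p := pullback.fst (𝒰.f x) (𝒰.f y) ≫ 𝒰.f x
    have hp : Set.range p ⊆ O x := by
      rintro _ ⟨z, rfl⟩
      exact ((pullback.fst (𝒰.f x) (𝒰.f y)) z).2
    refine (h x _ p hp).unique ?_ ?_
    · have := isLift_precomp (hl x) (pullback.snd j p) (pullback.fst (𝒰.f x) (𝒰.f y))
        (pullback.lift (pullback.fst j p) (pullback.snd j p ≫ pullback.fst (𝒰.f x) (𝒰.f y))
          (by rw [Category.assoc]; exact pullback.condition)) (pullback.lift_snd _ _ _).symm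
      rw [pullback.lift_fst_assoc, ← Category.assoc] at this
      exact this
    · have hp' : p = pullback.snd (𝒰.f x) (𝒰.f y) ≫ 𝒰.f y := pullback.condition
      have := isLift_precomp (hl y) (pullback.snd j p) (pullback.snd (𝒰.f x) (𝒰.f y))
        (pullback.lift (pullback.fst j p) (pullback.snd j p ≫ pullback.snd (𝒰.f x) (𝒰.f y))
          (by
            rw [Category.assoc]
            exact pullback.condition.trans (congrArg (pullback.snd j p ≫ ·) hp'))) (pullback.lift_snd _ _ _).symm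
      rw [pullback.lift_fst_assoc, ← Category.assoc] at this
      have e : (pullback.snd (𝒰.f x) (𝒰.f y) ≫ (O y).ι) ≫ b = p ≫ b := congrArg (· ≫ b) hp'.symm
      rw [e] at this
      exact this
  have hl' : IsLift i h' j b a (𝒰.glueMorphisms l hcompat) := by
    refine ⟨Scheme.Cover.hom_ext (Precoverage.ZeroHypercover.pullback₁ j 𝒰) _ _ fun k => ?_, 𝒰.hom_ext _ _ fun k => ?_⟩
    · show pullback.fst j (𝒰.f k) ≫ j ≫ _ = pullback.fst j (𝒰.f k) ≫ a ≫ i
      rw [pullback.condition_assoc, Scheme.Cover.ι_glueMorphisms]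
      exact ((hl k).1).trans (Category.assoc _ _ _)
    · rw [Scheme.Cover.ι_glueMorphisms_assoc]
      exact (hl k).2
  exact ⟨_, hl', fun m hm => huniq _ _ hm hl'⟩

/-- Universal thickenings over an open subscheme of the base are universal over the base. -/
theorem univ_comp_openImmersion {U : Scheme.{u}} (u : U ⟶ X) [IsOpenImmersion u] {h : Z ⟶ U} {i : Z ⟶ Z'}
    {h' : Z' ⟶ U} (hu : OmegaSh.IsUnivThickening h i h') : OmegaSh.IsUnivThickening (h ≫ u) i (h' ≫ u) := by
  obtain ⟨hi, hih, huniv⟩ := hu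
  refine ⟨hi, by rw [← Category.assoc, hih], fun T T' j b a hj hjb => ?_⟩
  have hr : Set.range b ⊆ Set.range u := by
    refine range_subset_of_surjective hj.1.2 hjb ?_
    rintro _ ⟨t, rfl⟩
    exact ⟨h (a t), rfl⟩
  let b₀ := IsOpenImmersion.lift u b hr
  have hb₀ : b₀ ≫ u = b := IsOpenImmersion.lift_fac _ _ _
  obtain ⟨a', ⟨h₁, h₂⟩, hun⟩ := huniv T T' j b₀ a hj (by
    rw [← cancel_mono u, Category.assoc, hb₀, hjb, Category.assoc])
  refine ⟨a', ⟨h₁, by rw [← Category.assoc, h₂, hb₀]⟩, fun m hm => hun m ⟨hm.1, ?_⟩⟩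
  rw [← cancel_mono u, Category.assoc, hm.2, hb₀]

/-- Universal thickenings are invariant under isomorphisms. -/
theorem univ_of_iso {W W' U : Scheme.{u}} {h : Z ⟶ X} {i : Z ⟶ Z'} {h' : Z' ⟶ X}
    (hu : OmegaSh.IsUnivThickening h i h') (e : W ≅ Z) (e' : W' ≅ Z') (e'' : U ≅ X)
    {g : W ⟶ U} {k : W ⟶ W'} {g' : W' ⟶ U} (hg : g ≫ e''.hom = e.hom ≫ h) (hk : k ≫ e'.hom = e.hom ≫ i)
    (hg' : g' ≫ e''.hom = e'.hom ≫ h') : OmegaSh.IsUnivThickening g k g' := by
  obtain ⟨hi, hih, huniv⟩ := hu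
  have hk' : k = e.hom ≫ i ≫ e'.inv := by
    rw [← cancel_mono e'.hom, hk, Category.assoc, Category.assoc, e'.inv_hom_id, Category.comp_id]
  refine ⟨isFirstOrderThickening_of_isPullback (IsPullback.of_vert_isIso ⟨hk⟩) hi, ?_, fun T T' j b a hj hjb => ?_⟩
  · rw [← cancel_mono e''.hom, Category.assoc, hg', reassoc_of% hk, hih, hg]
  · obtain ⟨a', ⟨h₁, h₂⟩, hun⟩ := huniv T T' j (b ≫ e''.hom) (a ≫ e.hom) hj (by
      rw [← Category.assoc, hjb, Category.assoc, hg, Category.assoc])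
    refine ⟨a' ≫ e'.inv, ⟨?_, ?_⟩, fun m hm => ?_⟩
    · rw [← Category.assoc, h₁, hk']
      simp only [Category.assoc]
    · rw [← cancel_mono e''.hom, Category.assoc, hg', Category.assoc, e'.inv_hom_id_assoc, h₂]
    · rw [← hun (m ≫ e'.hom) ⟨by rw [← Category.assoc, hm.1, Category.assoc, hk, Category.assoc],
        by rw [Category.assoc, ← hg', ← Category.assoc, hm.2]⟩, Category.assoc, e'.hom_inv_id, Category.comp_id]

end Groth.Agent.Thick12
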